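import Groth.Agent.MTImage.PreimageTorus
import Groth.Agent.CommMaxTorus.Basic
import Groth.Agent.Chev.CentCover
import Groth.Agent.Chev.BorelTools
import Groth.Agent.MTBridge.Centralizer
import Groth.Agent.GrpField.Irreducible
import Groth.Agent.AVQuot.Basic
import Groth.Agent.S8425

/-!
# Inverse images of subgroups containing the kernel

Over an algebraically closed field: if `w : H ⟶ H'` is a homomorphism whose kernel lies in a smooth (resp. connected)
subgroup of `H`, then `H` is smooth (resp. connected) as soon as `H'` is and `w` is flat surjective.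
-/

set_option autoImplicit false
set_option linter.style.haveILetI false
set_option backward.isDefEq.respectTransparency false
set_option maxHeartbeats 1000000
set_option synthInstance.maxHeartbeats 400000

universe u

open CategoryTheory Limits MonoidalCategory CartesianMonoidalCategory MonObj GrpObj AlgebraicGeometry
open Groth.Agent.SubGen (rpt map_rpt exists_rpt rpt_mem_closedPoints rpt_injective)

noncomputable section

namespace Groth.Agent.MTExt

/-- The inverse image of a subgroup is a subgroup. -/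
theorem exists_grpObj_pullback {S : Scheme.{u}} {H' G G' : Over S} [GrpObj H'] [GrpObj G] [GrpObj G']
    (h' : H' ⟶ G') [IsMonHom h'] [Mono h'] (v : G ⟶ G') [IsMonHom v] :
    ∃ _ : GrpObj (pullback h' v), IsMonHom (pullback.snd h' v) ∧ IsMonHom (pullback.fst h' v) := by
  obtain ⟨hg, hm⟩ := MTBridge.exists_grpObj_of_div (pullback.snd h' v)
    ⟨pullback.lift η[H'] η[G] (by rw [IsMonHom.one_hom, IsMonHom.one_hom]), pullback.lift_snd _ _ _⟩ fun T k₁ k₂ =>
    ⟨pullback.lift ((k₁ ≫ pullback.fst h' v)⁻¹ * (k₂ ≫ pullback.fst h' v))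
      ((k₁ ≫ pullback.snd h' v)⁻¹ * (k₂ ≫ pullback.snd h' v))
      (by simp only [MonObj.mul_comp, GrpObj.inv_comp, Category.assoc, pullback.condition]),
      pullback.lift_snd _ _ _⟩
  haveI := hm
  exact ⟨hg, hm, MTSplit.isMonHom_of_comp_mono (pullback.fst h' v) h' (pullback.snd h' v ≫ v) pullback.condition⟩

section AlgClosed

variable {k : Type u} [Field k] [IsAlgClosed k]
variable {H H' C : Over (Spec (CommRingCat.of k))} [GrpObj H] [GrpObj H'] [GrpObj C]

omit [GrpObj C] in
/-- Smoothness of a group with surjection onto a smooth group and kernel in a smooth subgroup. -/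
theorem smooth_of_ker_le [LocallyOfFiniteType H.hom] [QuasiCompact H.hom] [Smooth H'.hom] (w : H ⟶ H') [IsMonHom w]
    [Surjective w.left] (e : C ⟶ H) [Smooth C.hom]
    (hK : ∀ (X : Over (Spec (CommRingCat.of k))) (δ : X ⟶ H), δ ≫ w = 1 → ∃ p : X ⟶ C, p ≫ e = δ) :
    Smooth H.hom := by
  haveI : IsSeparated H'.hom := GrpField.isSeparated_hom H'
  haveI : IsSeparated H.hom := GrpField.isSeparated_hom H
  obtain ⟨R, hRg, c, hcm, hcmono, hRs, hRq, hlift⟩ := CommMaxTorus.exists_red H
  haveI := hcm; haveI := hcmono; haveI := hRs; haveI := hRq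
  haveI : IsReduced C.left := SmoothRed.isReduced_of_smooth_scheme C.hom
  obtain ⟨e', he'⟩ := hlift C e
  haveI : Surjective (c ≫ w).left := by
    refine ⟨fun y => ?_⟩
    obtain ⟨z, rfl⟩ := w.left.surjective y
    let T : Over (Spec (CommRingCat.of k)) := Over.mk (H.left.fromSpecResidueField z ≫ H.hom)
    haveI : IsReduced T.left := inferInstanceAs (IsReduced (Spec (H.left.residueField z)))
    let g : T ⟶ H := Over.homMk (H.left.fromSpecResidueField z)
    obtain ⟨g', hg'⟩ := hlift T g
    refine ⟨g'.left (IsLocalRing.closedPoint _), ?_⟩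
    show (c.left ≫ w.left) _ = _
    rw [Scheme.Hom.comp_apply, ← Scheme.Hom.comp_apply g'.left c.left, ← Over.comp_left, hg']
    exact congrArg w.left (H.left.fromSpecResidueField_apply z _)
  haveI : Flat (c ≫ w).left := MTImage.flat_hom (c ≫ w)
  haveI : LocallyOfFinitePresentation (c ≫ w).left := by
    haveI : LocallyOfFinitePresentation ((c ≫ w).left ≫ H'.hom) := by rw [Over.w (c ≫ w)]; infer_instance
    exact LimDesc.lfp_of_comp (c ≫ w).left H'.hom
  let l₀ := pullback.fst w.left (c ≫ w).left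
  let L : Over (Spec (CommRingCat.of k)) := Over.mk (l₀ ≫ H.hom)
  let l : L ⟶ H := Over.homMk l₀
  let r : L ⟶ R := Over.homMk (pullback.snd w.left (c ≫ w).left) (by
    show _ = l₀ ≫ H.hom
    rw [← Over.w w, ← Over.w (c ≫ w), ← pullback.condition_assoc])
  haveI : Flat l.left := MorphismProperty.pullback_fst _ _ ‹Flat (c ≫ w).left›
  haveI : Surjective l.left := MorphismProperty.pullback_fst _ _ ‹Surjective (c ≫ w).left›
  haveI : LocallyOfFinitePresentation l.left :=
    MorphismProperty.pullback_fst _ _ ‹LocallyOfFinitePresentation (c ≫ w).left›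
  have hlr : r ≫ c ≫ w = l ≫ w := Over.OverMorphism.ext pullback.condition.symm
  obtain ⟨p, hp⟩ := hK L ((r ≫ c)⁻¹ * l) (by
    rw [MonObj.mul_comp, GrpObj.inv_comp, Category.assoc, hlr, inv_mul_cancel])
  have hl : (r * (p ≫ e')) ≫ c = l := by
    rw [MonObj.mul_comp, Category.assoc p e' c, he', hp, mul_inv_cancel_left]
  obtain ⟨d, hd⟩ := AVQuot.exists_desc l (r * (p ≫ e')) fun {V} a b hab => (cancel_mono c).1 (by
    rw [Category.assoc, Category.assoc, hl, hab])
  haveI := AVQuot.epi_of_covering l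
  have hdc : d ≫ c = 𝟙 H := (cancel_epi l).1 (by rw [← Category.assoc, hd, hl, Category.comp_id])
  haveI : IsIso c := ⟨d, (cancel_mono c).1 (by rw [Category.assoc, hdc, Category.comp_id, Category.id_comp]), hdc⟩
  haveI : IsIso c.left := inferInstanceAs (IsIso ((Over.forget _).map c))
  rw [show H.hom = inv c.left ≫ R.hom by rw [← Over.w c, IsIso.inv_hom_id_assoc]]
  infer_instance

/-- Connectedness of a group with open map to a connected group and kernel in a connected subgroup. -/
theorem connected_of_ker_le [LocallyOfFiniteType H.hom] [LocallyOfFiniteType H'.hom] [ConnectedSpace H'.left]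
    (w : H ⟶ H') [IsMonHom w] (hw : IsOpenMap w.left) (e : C ⟶ H) [IsMonHom e] [ConnectedSpace C.left]
    (hK : ∀ δ : Chev.RP H, δ ≫ w = 1 → ∃ p : Chev.RP C, p ≫ e = δ) :
    ConnectedSpace H.left := by
  haveI : JacobsonSpace H.left := LocallyOfFiniteType.jacobsonSpace H.hom
  haveI : JacobsonSpace H'.left := LocallyOfFiniteType.jacobsonSpace H'.hom
  haveI : IrreducibleSpace H'.left :=
    GrpField.irreducibleSpace_of_nhds (GrpField.exists_irreducible_nhd H')
  let V : Set H.left := connectedComponent (rpt (1 : Chev.RP H))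
  have hVo : IsOpen V := isOpen_iff_forall_mem_open.2 fun x hx => by
    obtain ⟨W, hWo, hWi, hxW⟩ := GrpField.exists_irreducible_nhd H x
    exact ⟨W, (hWi.2.isPreconnected.subset_connectedComponent hxW).trans (connectedComponent_eq hx).ge, hWo, hxW⟩
  have himg : ∀ (f : H ⟶ H), rpt ((1 : Chev.RP H) ≫ f) ∈ V → ∀ q : Chev.RP H, rpt q ∈ V → rpt (q ≫ f) ∈ V := by
    intro f hf q hq
    have h1 : f.left '' V ⊆ V := by
      refine ((isPreconnected_connectedComponent.image _ f.left.continuous.continuousOn).subset_connectedComponent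
        ⟨_, mem_connectedComponent, map_rpt f _⟩).trans ?_
      exact (connectedComponent_eq hf).ge
    exact h1 ⟨_, hq, map_rpt f q⟩
  have hmul : ∀ a q : Chev.RP H, rpt a ∈ V → rpt q ∈ V → rpt (a * q) ∈ V := by
    intro a q ha hq
    have h := himg ((toUnit H ≫ a) * 𝟙 H) (by
      rw [MonObj.comp_mul, Category.comp_id, ← Category.assoc, toUnit_unique (_ ≫ toUnit H) (𝟙 _),
        Category.id_comp, _root_.mul_one]
      exact ha) q hq
    rwa [MonObj.comp_mul, Category.comp_id, ← Category.assoc, toUnit_unique (_ ≫ toUnit H) (𝟙 _),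
      Category.id_comp] at h
  have hinv : ∀ q : Chev.RP H, rpt q ∈ V → rpt q⁻¹ ∈ V := by
    intro q hq
    have h := himg (𝟙 H)⁻¹ (by
      rw [GrpObj.comp_inv, Category.comp_id, inv_one]
      exact mem_connectedComponent) q hq
    rwa [GrpObj.comp_inv, Category.comp_id] at h
  let U : Set H'.left := w.left '' V
  have hUo : IsOpen U := hw _ hVo
  have hU1 : rpt (1 : Chev.RP H') ∈ U := ⟨rpt (1 : Chev.RP H), mem_connectedComponent, by
    rw [map_rpt, MonObj.one_comp]⟩
  have hpre : ∀ z : Chev.RP H', rpt z ∈ U → ∃ a : Chev.RP H, rpt a ∈ V ∧ a ≫ w = z := by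
    rintro z ⟨t, htV, htz⟩
    obtain ⟨q, ⟨hqV, hqz⟩, hqc⟩ := nonempty_inter_closedPoints (Z := V ∩ w.left ⁻¹' {rpt z}) ⟨t, htV, htz⟩
      (hVo.isLocallyClosed.inter
        ((mem_closedPoints_iff.1 (rpt_mem_closedPoints z)).preimage w.left.continuous).isLocallyClosed)
    obtain ⟨a, rfl⟩ := exists_rpt hqc
    exact ⟨a, hqV, rpt_injective ((map_rpt w a).symm.trans hqz)⟩
  have hall : ∀ x : Chev.RP H, rpt x ∈ V := by
    intro x
    let y : Chev.RP H' := x ≫ w
    let t : H' ⟶ H' := (toUnit H' ≫ y) * 𝟙 H'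
    have ht : ∀ q : Chev.RP H', q ≫ t = y * q := fun q => by
      simp only [t]
      rw [MonObj.comp_mul, Category.comp_id, ← Category.assoc, toUnit_unique (_ ≫ toUnit H') (𝟙 _),
        Category.id_comp]
    have hne : (t.left ⁻¹' U).Nonempty := ⟨rpt y⁻¹, by
      show t.left (rpt y⁻¹) ∈ U
      rw [map_rpt, ht, mul_inv_cancel]
      exact hU1⟩
    have hi := nonempty_preirreducible_inter hUo (hUo.preimage t.left.continuous) ⟨_, hU1⟩ hne
    obtain ⟨z₀, ⟨hz, hz'⟩, hzc⟩ := nonempty_inter_closedPoints hi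
      (hUo.inter (hUo.preimage t.left.continuous)).isLocallyClosed
    obtain ⟨z, rfl⟩ := exists_rpt hzc
    obtain ⟨b, hb, hbz⟩ := hpre z hz
    obtain ⟨a, ha, haz⟩ := hpre (y * z) (by rw [← ht, ← map_rpt]; exact hz')
    obtain ⟨p, hp⟩ := hK ((a * b⁻¹)⁻¹ * x) (by
      rw [MonObj.mul_comp, GrpObj.inv_comp, MonObj.mul_comp, GrpObj.inv_comp, haz, hbz, mul_inv_cancel_right]
      exact inv_mul_cancel _)
    have hδ : rpt ((a * b⁻¹)⁻¹ * x) ∈ V := by
      rw [← hp, ← map_rpt]
      refine (isPreconnected_univ.image e.left e.left.continuous.continuousOn).subset_connectedComponent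
        ⟨rpt (1 : Chev.RP C), trivial, ?_⟩ ⟨_, trivial, rfl⟩
      rw [map_rpt, MonObj.one_comp]
    have h := hmul _ _ (hmul a b⁻¹ ha (hinv b hb)) hδ
    rwa [mul_inv_cancel_left] at h
  refine connectedSpace_iff_univ.2 ⟨⟨rpt (1 : Chev.RP H), trivial⟩, ?_⟩
  have hV : V = Set.univ := by
    by_contra hne
    obtain ⟨z, hz⟩ := (Set.ne_univ_iff_exists_notMem V).1 hne
    obtain ⟨q, hq, hqc⟩ := nonempty_inter_closedPoints (Z := Vᶜ) ⟨z, hz⟩
      isClosed_connectedComponent.isOpen_compl.isLocallyClosed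
    obtain ⟨a, rfl⟩ := exists_rpt hqc
    exact hq (hall a)
  rw [← hV]; exact isPreconnected_connectedComponent

end AlgClosed

end Groth.Agent.MTExt
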