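import Groth.Agent.MTBridge.Charts
import Groth.Agent.MTBridge.BaseChange
import Groth.Agent.MTBridge.TrivialSub
import Groth.Agent.FpqcDescent.Props
import Mathlib

/-!
# Power maps of groups of multiplicative type are finite
-/

set_option autoImplicit false
set_option linter.style.haveILetI false
set_option backward.isDefEq.respectTransparency false
set_option maxHeartbeats 1000000
set_option synthInstance.maxHeartbeats 400000

universe u

open CategoryTheory CategoryTheory.Limits MonoidalCategory CartesianMonoidalCategory MonObj AlgebraicGeometry Opposite WithConv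
open Groth.Agent.MTBridge
open scoped CategoryTheory.Obj

noncomputable section

namespace Groth.Agent.MTExt

variable {S : Scheme.{u}}

/-- Powers of a point composed with a homomorphism. -/
theorem pow_comp_hom {X G H : Over S} [GrpObj G] [GrpObj H] (a : X ⟶ G) (f : G ⟶ H) [IsMonHom f] (n : ℕ) :
    (a ^ n) ≫ f = (a ≫ f) ^ n := by
  induction n with
  | zero => rw [pow_zero, pow_zero, MonObj.one_comp]
  | succ n ih => rw [pow_succ, pow_succ, MonObj.mul_comp, ih]

/-- Powers of a point composed on the left. -/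
theorem comp_pow' {X Y G : Over S} [GrpObj G] (b : Y ⟶ X) (a : X ⟶ G) (n : ℕ) :
    b ≫ (a ^ n) = (b ≫ a) ^ n := by
  induction n with
  | zero => rw [pow_zero, pow_zero, MonObj.comp_one]
  | succ n ih => rw [pow_succ, pow_succ, MonObj.comp_mul, ih]

/-- Powers commute with base change. -/
theorem map_pow_bc {T : Scheme.{u}} (g : T ⟶ S) (G : Over S) [GrpObj G] (n : ℕ) :
    (Over.pullback g).map ((𝟙 G) ^ n) = (𝟙 (Red.bc g G)) ^ n := by
  induction n with
  | zero => rw [pow_zero, pow_zero, Functor.map_one]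
  | succ n ih => rw [pow_succ, pow_succ, Functor.map_mul, ih, CategoryTheory.Functor.map_id]

/-- The base change of a morphism is a pullback of the underlying morphisms. -/
theorem isPullback_bc {T : Scheme.{u}} (g : T ⟶ S) {X Y : Over S} (φ : X ⟶ Y) :
    IsPullback (pullback.fst X.hom g) ((Over.pullback g).map φ).left φ.left (pullback.fst Y.hom g) := by
  refine IsPullback.of_bot ?_ (pullback.lift_fst _ _ _).symm (IsPullback.of_hasPullback Y.hom g)
  rw [show ((Over.pullback g).map φ).left ≫ pullback.snd Y.hom g = pullback.snd X.hom g from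
    pullback.lift_snd _ _ _, Over.w φ]
  exact IsPullback.of_hasPullback X.hom g

/-- On a split group over an affine base the power maps are finite. -/
theorem isFinite_pow_monoidAlgebra (R : Type u) [CommRing R] (N : Type u) [CommGroup N] [Group.FG N] {n : ℕ}
    (hn : 0 < n) : IsFinite ((𝟙 (specGrp R (MonoidAlgebra R N)).X) ^ n).left := by
  let A := MonoidAlgebra R N
  let p : A →ₐ[R] A := SGA3b.powConv R A n
  have h1 : ((𝟙 (specGrp R A).X) ^ n).left = Spec.map (CommRingCat.ofHom p.toRingHom) := by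
    have hid : (𝟙 (specGrp R A).X) =
        Spec.mapMulEquiv (R := R) (S := A) (T := A) (toConv (AlgHom.id R A)) := by
      apply Over.OverMorphism.ext
      show 𝟙 _ = Spec.map (CommRingCat.ofHom (AlgHom.id R A).toRingHom)
      exact (Spec.map_id _).symm
    rw [hid, ← map_pow]
    rfl
  rw [h1, IsFinite.SpecMap_iff]
  have hp : ∀ m : N, p (MonoidAlgebra.single m 1) = MonoidAlgebra.single m (1 : R) ^ n := fun m =>
    powConv_groupLike (MonoidAlgebra.isGroupLikeElem_single_one m) n
  haveI : Algebra.FiniteType R A := inferInstance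
  refine RingHom.IsIntegral.to_finite ?_ ?_
  · intro a
    induction a using MonoidAlgebra.induction_linear with
    | zero => exact RingHom.isIntegralElem_zero _
    | add u v hu hv => exact hu.add _ hv
    | single m r =>
      have hm : p.toRingHom.IsIntegralElem (MonoidAlgebra.single m (1 : R)) := by
        refine ⟨Polynomial.X ^ n - Polynomial.C (MonoidAlgebra.single m (1 : R)),
          Polynomial.monic_X_pow_sub_C _ (by omega), ?_⟩
        rw [Polynomial.eval₂_sub, Polynomial.eval₂_X_pow, Polynomial.eval₂_C]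
        show _ - p (MonoidAlgebra.single m 1) = 0
        rw [hp, sub_self]
      have hr : p.toRingHom.IsIntegralElem (algebraMap R A r) := by
        rw [show algebraMap R A r = p.toRingHom (algebraMap R A r) from (p.commutes r).symm]
        exact RingHom.isIntegralElem_map _
      have h := RingHom.IsIntegralElem.mul _ hr hm
      rwa [← Algebra.smul_def, MonoidAlgebra.smul_single, smul_eq_mul, _root_.mul_one] at h
  · refine RingHom.FiniteType.of_comp_finiteType (f := algebraMap R A) ?_
    have hc : (p.toRingHom).comp (algebraMap R A) = algebraMap R A := p.comp_algebraMap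
    have hA : (algebraMap R A).FiniteType := RingHom.finiteType_algebraMap.2 inferInstance
    rw [← hc] at hA
    exact hA

/-- Finiteness of power maps is invariant under isomorphism. -/
theorem isFinite_pow_of_iso {G H : Over S} [GrpObj G] [GrpObj H] (e : Grp.mk G ≅ Grp.mk H) {n : ℕ}
    (h : IsFinite ((𝟙 H) ^ n).left) : IsFinite ((𝟙 G) ^ n).left := by
  let f : G ≅ H := (Grp.forget _).mapIso e
  haveI : IsMonHom f.hom := e.hom.hom.isMonHom_hom
  haveI : IsIso f.hom.left := ((Over.forget _).mapIso f).isIso_hom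
  haveI : IsIso f.inv.left := ((Over.forget _).mapIso f).isIso_inv
  have h1 : (𝟙 G) ^ n = f.hom ≫ ((𝟙 H) ^ n) ≫ f.inv := by
    haveI : IsMonHom f.inv := e.inv.hom.isMonHom_hom
    rw [pow_comp_hom, comp_pow', Category.id_comp, f.hom_inv_id]
  rw [h1, Over.comp_left, Over.comp_left]
  infer_instance

/-- Power maps are finite once they are after a faithfully flat quasi-compact base change. -/
theorem isFinite_pow_of_bc {T : Scheme.{u}} (g : T ⟶ S) [Flat g] [Surjective g] [QuasiCompact g] (G : Over S)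
    [GrpObj G] {n : ℕ} (h : IsFinite ((𝟙 (Red.bc g G)) ^ n).left) : IsFinite ((𝟙 G) ^ n).left := by
  rw [← map_pow_bc g G n] at h
  refine MorphismProperty.of_isPullback_of_descendsAlong (P := @IsFinite) (Q := @Surjective ⊓ @Flat ⊓ @QuasiCompact)
    (isPullback_bc g ((𝟙 G) ^ n)).flip ?_ h
  exact ⟨⟨MorphismProperty.pullback_fst _ _ ‹Surjective g›, MorphismProperty.pullback_fst _ _ ‹Flat g›⟩,
    MorphismProperty.pullback_fst _ _ ‹QuasiCompact g›⟩

/-- Finiteness of power maps is local on the base. -/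
theorem isFinite_pow_of_cover (𝒰 : S.OpenCover) (G : Over S) [GrpObj G] {n : ℕ}
    (h : ∀ i, IsFinite ((𝟙 (Red.bc (𝒰.f i) G)) ^ n).left) : IsFinite ((𝟙 G) ^ n).left := by
  refine IsZariskiLocalAtTarget.of_openCover (P := @IsFinite) (𝒰.pullback₁ G.hom) fun i => ?_
  have h1 := h i
  rw [← map_pow_bc] at h1
  have hsq := isPullback_bc (𝒰.f i) ((𝟙 G) ^ n)
  have h2 := hsq.isoPullback_inv_snd
  show IsFinite (pullback.snd ((𝟙 G) ^ n : G ⟶ G).left (pullback.fst G.hom (𝒰.f i)))
  rw [← h2]
  infer_instance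

/-- Power maps of groups of multiplicative type over an affine base are finite. -/
theorem isFinite_pow_affine {R : CommRingCat.{u}} (H : Over (Spec R)) [GrpObj H] (hH : SGA3x.IsMultTypeFT H)
    {n : ℕ} (hn : 0 < n) : IsFinite ((𝟙 H) ^ n).left := by
  obtain ⟨S', f, hf, hfs, hlift, hloc⟩ := hH
  obtain ⟨W, hW, hWim⟩ := hlift ⊤ (isAffineOpen_top _)
  choose U hU M hM hMfg e using hloc
  let g : (W : Scheme.{u}) ⟶ Spec R := W.ι ≫ f
  haveI : CompactSpace W := isCompact_iff_compactSpace.1 hW
  haveI : QuasiCompact g := quasiCompact_of_compactSpace g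
  haveI : Flat g := inferInstance
  haveI : Surjective g := ⟨fun y => by
    obtain ⟨w, hw, hwy⟩ := hWim.ge (Set.mem_univ y)
    exact ⟨⟨w, hw⟩, hwy⟩⟩
  refine isFinite_pow_of_bc g H ?_
  have hex : ∀ x : W, ∃ V : S'.Opens, IsAffineOpen V ∧ x.1 ∈ V ∧ V ≤ U x.1 ⊓ W := by
    intro x
    obtain ⟨_, ⟨V, hV, rfl⟩, hxV, hVU⟩ :=
      S'.isBasis_affineOpens.exists_subset_of_mem_open
        (show x.1 ∈ ((U x.1 ⊓ W : S'.Opens) : Set S') from ⟨hU x.1, x.2⟩) (U x.1 ⊓ W).isOpen
    exact ⟨V, hV, hxV, hVU⟩
  choose V hV hxV hVle using hex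
  let j : ∀ x : W, Spec Γ(S', V x) ⟶ (W : Scheme.{u}) := fun x =>
    IsOpenImmersion.lift W.ι (hV x).fromSpec (by
      rw [(hV x).range_fromSpec, Scheme.Opens.range_ι]
      exact (hVle x).trans inf_le_right)
  have hj : ∀ x, j x ≫ W.ι = (hV x).fromSpec := fun x => IsOpenImmersion.lift_fac _ _ _
  haveI : ∀ x, IsOpenImmersion (j x) := fun x => by
    haveI : IsOpenImmersion (j x ≫ W.ι) := by rw [hj]; infer_instance
    exact IsOpenImmersion.of_comp (j x) W.ι
  let 𝒰 : (W : Scheme.{u}).OpenCover := Scheme.Cover.mkOfCovers W _ j (fun x => by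
    obtain ⟨q, hq⟩ := (hV x).range_fromSpec.ge (hxV x)
    refine ⟨x, q, ?_⟩
    refine W.ι.isOpenEmbedding.injective ?_
    rw [← Scheme.Hom.comp_apply, hj, hq]
    rfl) (fun x => inferInstance)
  refine isFinite_pow_of_cover 𝒰 (Red.bc g H) fun x => ?_
  let gU : Spec Γ(S', V x) ⟶ (U x.1 : Scheme.{u}) :=
    IsOpenImmersion.lift (U x.1).ι (hV x).fromSpec (by
      rw [(hV x).range_fromSpec, Scheme.Opens.range_ι]
      exact (hVle x).trans inf_le_left)
  obtain ⟨e₁⟩ := nonempty_bc_split (H := H) (e x.1) gU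
  obtain ⟨e₂⟩ := nonempty_DS_iso Γ(S', V x) (M x.1)
  haveI : AddGroup.FG (M x.1) := hMfg x.1
  let N : Type u := ULift.{u} (Multiplicative (M x.1))
  obtain ⟨e₃⟩ := nonempty_specGrp_iso (MonoidAlgebra.domCongrBialgEquiv Γ(S', V x) Γ(S', V x)
    (MulEquiv.ulift (α := Multiplicative (M x.1))))
  haveI : Group.FG N := by
    haveI : Group.FG (Multiplicative (M x.1)) := inferInstance
    exact Group.fg_of_surjective (f := (MulEquiv.ulift (α := Multiplicative (M x.1))).symm.toMonoidHom)
      (MulEquiv.surjective _)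
  have hfac : gU ≫ (U x.1).ι ≫ f = j x ≫ g := by
    show gU ≫ (U x.1).ι ≫ f = j x ≫ W.ι ≫ f
    rw [← Category.assoc, IsOpenImmersion.lift_fac, ← Category.assoc (j x), hj]
  exact isFinite_pow_of_iso ((bcComp g (j x) H).symm ≪≫ bcCongr hfac.symm H ≪≫ e₁ ≪≫ e₂ ≪≫ e₃)
    (isFinite_pow_monoidAlgebra _ N hn)

/-- **Power maps of groups of multiplicative type of finite type are finite.** -/
theorem isFinite_pow (H : Over S) [GrpObj H] (hH : SGA3x.IsMultTypeFT H) {n : ℕ} (hn : 0 < n) :
    IsFinite ((𝟙 H) ^ n).left := by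
  exact isFinite_pow_of_cover S.affineCover H fun i =>
    isFinite_pow_affine _ (isMultTypeFT_bc H _ hH) hn

end Groth.Agent.MTExt
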