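import Groth.Agent.S16775
import Groth.Agent.S5510
import Groth.Agent.S5253
import Groth.Agent.MTImage.SubTorus
import Groth.Agent.FibCrit.Thickening
import Groth.Agent.GrpField.SurjSmooth
import Groth.Agent.MTExt.PowFinite
import Groth.Agent.LimDesc.FPCancel

/-!
# Central isogenies of reductive groups
-/

set_option autoImplicit false
set_option linter.style.haveILetI false
set_option backward.isDefEq.respectTransparency false
set_option maxHeartbeats 1000000
set_option synthInstance.maxHeartbeats 400000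

universe u

open CategoryTheory CategoryTheory.Limits MonoidalCategory CartesianMonoidalCategory MonObj AlgebraicGeometry
open scoped CategoryTheory.Obj

noncomputable section

namespace Groth.Agent.MTExt

variable {S : Scheme.{u}}

/-- A quasi-finite group of multiplicative type is finite. -/
theorem isFinite_of_lqf (H : Over S) [GrpObj H] (hH : SGA3x.IsMultTypeFT H) [LocallyQuasiFinite H.hom] :
    IsFinite H.hom := by
  have key : ∀ {R : CommRingCat.{u}} (G : Over (Spec R)) [GrpObj G], SGA3x.IsMultTypeFT G →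
      LocallyQuasiFinite G.hom → IsFinite G.hom := by
    intro R G _ hG hq
    obtain ⟨A, _, _, hA, hft, ⟨e⟩⟩ := MTBridge.exists_hopf (R := R) G hG
    haveI := hft
    haveI := MultT.isCocomm hA
    haveI : IsIso e.hom.hom.hom.left := inferInstanceAs (IsIso ((Over.forget _).map ((Grp.forget _).map e.hom)))
    haveI : IsIso e.inv.hom.hom.left := inferInstanceAs (IsIso ((Over.forget _).map ((Grp.forget _).map e.inv)))
    haveI := hq
    have h0 : LocallyQuasiFinite (Spec.map (CommRingCat.ofHom (algebraMap R A))) := by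
      rw [show Spec.map (CommRingCat.ofHom (algebraMap R A)) = e.inv.hom.hom.left ≫ G.hom from
        (Over.w e.inv.hom.hom).symm]
      infer_instance
    haveI : Algebra.QuasiFinite R A := RingHom.quasiFinite_algebraMap.1
      ((HasRingHomProperty.Spec_iff (P := @LocallyQuasiFinite)).1 h0)
    obtain ⟨n, hn, hpow⟩ := S5253.result R A (MultT.finitePresentation_algebra hA)
    have hid : (𝟙 (MTBridge.specGrp R A).X) =
        Spec.mapMulEquiv (R := R) (S := A) (T := A) (WithConv.toConv (AlgHom.id R A)) := by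
      apply Over.OverMorphism.ext
      show 𝟙 _ = Spec.map (CommRingCat.ofHom (AlgHom.id R A).toRingHom)
      exact (Spec.map_id _).symm
    have h1 : (𝟙 (MTBridge.specGrp R A).X) ^ n = 1 := by
      rw [hid, ← map_pow, ← map_one (Spec.mapMulEquiv (R := R) (S := A) (T := A))]
      refine congrArg _ (WithConv.ofConv_injective (AlgHom.ext fun c => ?_))
      rw [AlgHom.convOne_apply]
      exact hpow c
    let f : G ≅ (MTBridge.specGrp R A).X := (Grp.forget _).mapIso e
    haveI : IsMonHom f.hom := e.hom.hom.isMonHom_hom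
    haveI : Mono f.hom := inferInstance
    have h2 : (𝟙 G) ^ n = 1 := by
      rw [← cancel_mono f.hom, pow_comp_hom, Category.id_comp, MonObj.one_comp,
        show f.hom ^ n = f.hom ≫ ((𝟙 _) ^ n) by rw [comp_pow', Category.comp_id], h1, MonObj.comp_one]
    have h3 := isFinite_pow G hG hn
    rw [h2, Hom.one_def, Over.comp_left] at h3
    haveI := h3
    haveI := MTBridge.isAffineHom G hG
    haveI : IsClosedImmersion ((η[G] : 𝟙_ _ ⟶ G).left ≫ G.hom) := by
      rw [show (η[G] : 𝟙_ _ ⟶ G).left ≫ G.hom = 𝟙 _ from Over.w (η[G])]; infer_instance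
    haveI : IsClosedImmersion (η[G] : 𝟙_ _ ⟶ G).left := IsClosedImmersion.of_comp _ G.hom
    exact MorphismProperty.of_postcomp (W' := @IsSeparated) _ G.hom (η[G] : 𝟙_ _ ⟶ G).left inferInstance
      (show IsFinite (G.hom ≫ (η[G] : 𝟙_ _ ⟶ G).left) from h3)
  refine IsZariskiLocalAtTarget.of_openCover (P := @IsFinite) S.affineCover fun i => ?_
  show IsFinite (pullback.snd H.hom (S.affineCover.f i))
  exact key (Red.bc (S.affineCover.f i) H) (MTBridge.isMultTypeFT_bc H _ hH)
    (MorphismProperty.pullback_snd _ _ ‹LocallyQuasiFinite H.hom›)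

/-- A point of `G'` over a fibre. -/
theorem comm_of_bc {G' K : Over S} [GrpObj G'] (i : K ⟶ G') (s : S)
    (hcen : ∀ (X : Over (Spec (S.residueField s))) (x : X ⟶ Red.bc (S.fromSpecResidueField s) K)
      (g : X ⟶ Red.bc (S.fromSpecResidueField s) G'),
      (x ≫ (Over.pullback (S.fromSpecResidueField s)).map i) * g =
        g * (x ≫ (Over.pullback (S.fromSpecResidueField s)).map i))
    (X : Over S) (hX : OverPt s X) (x : X ⟶ K) (g : X ⟶ G') : (x ≫ i) * g = g * (x ≫ i) := by
  obtain ⟨w, hw⟩ := hX
  let j := S.fromSpecResidueField s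
  let X' : Over (Spec (S.residueField s)) := Over.mk w
  let ε : (Over.map j).obj X' ≅ X := Over.isoMk (Iso.refl _) (by simpa [X', j] using hw.symm)
  rw [← cancel_epi ε.hom, MonObj.comp_mul, MonObj.comp_mul]
  refine MTBridge.toBC_inj j ?_
  rw [MTBridge.toBC_mul, MTBridge.toBC_mul, ← Category.assoc ε.hom x i, MTBridge.toBC_comp]
  exact hcen X' _ _

/-- Surjective homomorphisms of reductive groups are flat. -/
theorem flat_of_surjective {G' G : Over S} [GrpObj G'] [GrpObj G] (hG' : Red.IsReductive G')
    (hG : Red.IsReductive G) (f : G' ⟶ G) [IsMonHom f] (hf : Surjective f.left) :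
    Flat f.left ∧ LocallyOfFinitePresentation f.left ∧ QuasiCompact f.left := by
  haveI := hG'.1; haveI := hG.1; haveI := hG'.2.1; haveI := hG.2.1
  haveI : QuasiCompact f.left := by
    haveI : QuasiCompact (f.left ≫ G.hom) := by rw [Over.w f]; infer_instance
    exact QuasiCompact.of_comp f.left G.hom
  obtain ⟨h1, h2, -⟩ := FibCrit.LFT.flat_of_fibres (f := f.left) (g := G.hom) (h := G'.hom) (Over.w f) fun s => by
    let j := S.fromSpecResidueField s
    let F := Over.pullback j
    haveI : IsMonHom (F.map f) := inferInstance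
    have hsq := isPullback_bc j f
    haveI : Surjective (F.map f).left := MorphismProperty.of_isPullback hsq hf
    haveI : QuasiCompact (F.map f).left := MorphismProperty.of_isPullback hsq ‹_›
    haveI : Smooth (Red.bc j G).hom := MorphismProperty.pullback_snd _ _ hG.2.1
    haveI : LocallyOfFiniteType (Red.bc j G').hom := MorphismProperty.pullback_snd _ _ inferInstance
    haveI : IsReduced (Red.bc j G).left :=
      SmoothRed.isReduced_of_smooth_scheme (R := S.residueField s) (Red.bc j G).hom
    haveI : Flat (F.map f).left := GrpField.flat_of_surjective_reduced (F.map f)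
    show Flat (pullback.snd f.left (pullback.fst G.hom j))
    rw [← hsq.isoPullback_inv_snd]
    infer_instance
  exact ⟨h2, h1, ‹_›⟩

/-- **The kernel of a surjective homomorphism of reductive groups with central fibres is of multiplicative type
and central.** -/
theorem kernel_central_mt {G' G K : Over S} [GrpObj G'] [GrpObj G] (hG' : Red.IsReductive G')
    (hG : Red.IsReductive G) (f : G' ⟶ G) [IsMonHom f] (hf : Surjective f.left) (i : K ⟶ G')
    (hK : AlgGrp.IsKernel i f)
    (hcen : ∀ (s : S) (X : Over S), OverPt s X → ∀ (x : X ⟶ K) (g : X ⟶ G'), (x ≫ i) * g = g * (x ≫ i)) :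
    ∃ (K₀ : Over S) (_ : GrpObj K₀) (e : K₀ ≅ K),
      IsMonHom (e.hom ≫ i) ∧ SGA3x.IsMultTypeFT K₀ ∧ AlgGrp.IsKernel (e.hom ≫ i) f ∧
      IsClosedImmersion (e.hom ≫ i).left ∧
      ∀ (X : Over S) (x : X ⟶ K) (g : X ⟶ G'), (x ≫ i) * g = g * (x ≫ i) := by
  obtain ⟨hfl, hfp, hfq⟩ := flat_of_surjective hG' hG f hf
  haveI := hG'.1; haveI := hG.1; haveI := hG'.2.1; haveI := hG.2.1
  obtain ⟨Z', _, j', hj', hj'c, hZ'⟩ := S5510.result G' hG'
  obtain ⟨Zg, _, jg, hjg, hjgc, hZg⟩ := S5510.result G hG
  haveI := hj'.1; haveI := hjg.1; haveI := hjg.2.1; haveI := hj'.2.1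
  haveI : Mono i := ⟨fun {_} _ _ h =>
    (show IsPullback i (toUnit K) f η[G] from hK).hom_ext h (toUnit_unique _ _)⟩
  obtain ⟨u, hu⟩ := (hjg.2.2 Z' (j' ≫ f)).2 fun X' x h => by
    obtain ⟨X'', c, h', hc, hh'⟩ := Chev.MultRigid.exists_lift_cover f h
    haveI := hc
    rw [← cancel_epi c, Category.comp_id, MonObj.comp_mul, MonObj.comp_mul, ← hh']
    have h2 := (hj'.2.2 Z' j').1 ⟨𝟙 _, Category.id_comp _⟩ X'' (c ≫ x) h'
    rw [Category.comp_id] at h2
    simp only [← Category.assoc, ← MonObj.mul_comp, h2]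
  haveI : IsMonHom u := MTBridge.isMonHom_of_points u fun Y a b => (cancel_mono jg).1 (by
    rw [Category.assoc, hu, ← Category.assoc, MonObj.mul_comp a b j', MonObj.mul_comp _ _ f,
      MonObj.mul_comp _ _ jg, Category.assoc, Category.assoc, Category.assoc, Category.assoc, hu])
  obtain ⟨K₀, _, k, hkm, hkc, hk, hK₀⟩ := MTKernel.exists_kernel_mt hZ' hZg u
  haveI := hkm; haveI := hkc
  obtain ⟨m, hm⟩ := (MTKernel.exists_lift_iff hK (k ≫ j')).2 (by
    rw [Category.assoc, ← hu, ← Category.assoc, (MTKernel.exists_lift_iff hk k).1 ⟨𝟙 _, Category.id_comp _⟩,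
      MonObj.one_comp])
  haveI : IsClosedImmersion (k ≫ j').left := by
    rw [Over.comp_left]; exact MorphismProperty.comp_mem (W := @IsClosedImmersion) _ _ hkc hj'c
  have hη : IsClosedImmersion (η[G] : 𝟙_ _ ⟶ G).left := by
    haveI : IsClosedImmersion ((η[G] : 𝟙_ _ ⟶ G).left ≫ G.hom) := by
      rw [show (η[G] : 𝟙_ _ ⟶ G).left ≫ G.hom = 𝟙 _ from Over.w (η[G])]; infer_instance
    exact IsClosedImmersion.of_comp _ G.hom
  have hi : IsClosedImmersion i.left :=
    MorphismProperty.of_isPullback (P := @IsClosedImmersion) (hK.map (Over.forget _)).flip hη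
  haveI := hi
  haveI : IsClosedImmersion m.left := by
    haveI : IsClosedImmersion (m.left ≫ i.left) := by rw [← Over.comp_left, hm]; infer_instance
    exact IsClosedImmersion.of_comp m.left i.left
  haveI : LocallyOfFiniteType K.hom := by rw [← Over.w i]; infer_instance
  haveI : Flat K₀.hom := MTBridge.flat_of_isMultTypeFT K₀ hK₀
  haveI : LocallyOfFinitePresentation K₀.hom := by
    refine IsZariskiLocalAtTarget.of_openCover (P := @LocallyOfFinitePresentation) S.affineCover fun a => ?_
    show LocallyOfFinitePresentation (pullback.snd K₀.hom (S.affineCover.f a))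
    obtain ⟨A, _, _, hA, hft, ⟨e⟩⟩ :=
      MTBridge.exists_hopf (R := _) (Red.bc (S.affineCover.f a) K₀) (MTBridge.isMultTypeFT_bc K₀ _ hK₀)
    haveI := hft
    haveI : IsIso e.hom.hom.hom.left := inferInstanceAs (IsIso ((Over.forget _).map ((Grp.forget _).map e.hom)))
    rw [show pullback.snd K₀.hom (S.affineCover.f a) = e.hom.hom.hom.left ≫ Spec.map (CommRingCat.ofHom
      (algebraMap _ A)) from (Over.w e.hom.hom.hom).symm]
    exact MorphismProperty.comp_mem (W := @LocallyOfFinitePresentation) _ _ inferInstance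
      ((HasRingHomProperty.Spec_iff (P := @LocallyOfFinitePresentation)).2
        (RingHom.finitePresentation_algebraMap.2 (MultT.finitePresentation_algebra hA)))
  have hiso : IsIso m.left := FibCrit.LFT.isIso_of_fibres (g := K.hom) (Over.w m) fun s => by
    let X : Over S := Over.mk (K.hom.fiberι s ≫ K.hom)
    let x : X ⟶ K := Over.homMk (K.hom.fiberι s)
    have hX : OverPt s X := ⟨K.hom.fiberToSpecResidueField s, pullback.condition.symm⟩
    obtain ⟨z, hz⟩ := (hj'.2.2 X (x ≫ i)).2 fun X' y h => by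
      rw [Category.comp_id, ← Category.assoc]; exact hcen s X' (hX.comp y) (y ≫ x) h
    obtain ⟨l, hl⟩ := (MTKernel.exists_lift_iff hk z).2 ((cancel_mono jg).1 (by
      rw [MonObj.one_comp, Category.assoc, hu, ← Category.assoc, hz, Category.assoc,
        (MTKernel.exists_lift_iff hK i).1 ⟨𝟙 _, Category.id_comp _⟩, MonObj.comp_one]))
    have hlm : l ≫ m = x := (cancel_mono i).1 (by rw [Category.assoc, hm, ← Category.assoc, hl, hz])
    have hlm' : l.left ≫ m.left = K.hom.fiberι s := congrArg CommaMorphism.left hlm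
    haveI : IsSplitEpi (pullback.snd m.left (K.hom.fiberι s)) :=
      ⟨⟨⟨pullback.lift l.left (𝟙 _) (by rw [Category.id_comp]; exact hlm'), pullback.lift_snd _ _ _⟩⟩⟩
    exact isIso_of_mono_of_isSplitEpi _
  haveI := hiso
  haveI : IsIso ((Over.forget _).map m) := hiso
  haveI : IsIso m := isIso_of_reflects_iso m (Over.forget _)
  refine ⟨K₀, inferInstance, asIso m, ?_, hK₀, ?_, ?_, fun X x g => ?_⟩
  · show IsMonHom (m ≫ i)
    rw [hm]; infer_instance
  · show AlgGrp.IsKernel (m ≫ i) f
    refine IsPullback.of_iso hK (asIso m).symm (Iso.refl _) (Iso.refl _) (Iso.refl _) ?_ ?_ ?_ ?_ <;> simp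
  · show IsClosedImmersion (m ≫ i).left
    rw [hm]; infer_instance
  · have hx : x ≫ i = (x ≫ CategoryTheory.inv m ≫ k) ≫ j' := by
      rw [Category.assoc, Category.assoc, ← hm, IsIso.inv_hom_id_assoc]
    have h2 := (hj'.2.2 X (x ≫ i)).1 ⟨_, hx.symm⟩ X (𝟙 X) g
    simpa only [Category.id_comp, Category.comp_id] using h2

end Groth.Agent.MTExt
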