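import Groth.Agent.NeronCrit.Basic
import Groth.Agent.RegLoc.Normal
import Groth.Agent.S2111

/-!
# Units of the generic fibre with value one on the identity section are units at the special point

The local algebra behind the extension of homomorphisms into groups of multiplicative type.
-/

set_option autoImplicit false
set_option linter.style.haveILetI false
set_option backward.isDefEq.respectTransparency false
set_option backward.isDefEq.respectTransparency.types false
set_option synthInstance.maxHeartbeats 400000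
set_option maxHeartbeats 1000000

universe u

open CategoryTheory CategoryTheory.Limits AlgebraicGeometry IsLocalRing

noncomputable section

namespace Groth.Agent.MTExt

section algebra

variable {A O B : Type u} [CommRing A] [IsDomain A] [IsLocalRing A] [CommRing O] [IsDomain O] [IsLocalRing O]
  [IsNoetherianRing O] [IsIntegrallyClosed O] [CommRing B]

/-- The algebraic core: a unit of `O[1/t]` with value one at the section is a unit at the prime over `t`. -/
theorem mem_range_localization (t : O) (P : Ideal O) [P.IsPrime] (htP : t ∈ P)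
    (hP : ∀ Q : Ideal O, Q.IsPrime → t ∈ Q → P ≤ Q) (hP1 : P.height ≤ 1) (ht0 : t ≠ 0)
    (O' : Type u) [CommRing O'] [Algebra O O'] [IsLocalization.Away t O']
    (ι : O' →+* FractionRing O) (hι : ι.comp (algebraMap O O') = algebraMap O (FractionRing O))
    (ev : O →+* A) [IsLocalHom ev] {K : Type u} [Field K] [Algebra A K] [IsFractionRing A K]
    (ev' : O' →+* K) (hev : ev'.comp (algebraMap O O') = (algebraMap A K).comp ev)
    (φ : A →+* B) (ψ : A →+* O) (ε : B →+* A)
    (hgen : Subring.closure (Set.range φ ∪ {b | IsUnit b ∧ ε b = 1}) = ⊤)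
    (γ : B →+* O') (hγφ : γ.comp φ = (algebraMap O O').comp ψ)
    (hγε : ev'.comp γ = (algebraMap A K).comp ε) :
    (ι.comp γ).range ≤ (algebraMap (Localization.AtPrime P) (FractionRing O)).range := by
  let F := FractionRing O
  let D := Localization.AtPrime P
  have hι' : ∀ o, ι (algebraMap O O' o) = algebraMap O F o := RingHom.congr_fun hι
  rintro _ ⟨b, rfl⟩
  have hb : b ∈ Subring.closure (Set.range φ ∪ {b | IsUnit b ∧ ε b = 1}) := hgen.symm ▸ Subring.mem_top b
  refine Subring.closure_induction (p := fun b _ => (ι.comp γ) b ∈ (algebraMap D F).range)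
    ?_ ?_ ?_ ?_ ?_ ?_ hb
  · rintro b (⟨a, rfl⟩ | ⟨hu, hε⟩)
    · refine ⟨algebraMap O D (ψ a), ?_⟩
      show algebraMap D F (algebraMap O D (ψ a)) = ι (γ (φ a))
      rw [← IsScalarTower.algebraMap_apply O D F,
        show γ (φ a) = algebraMap O O' (ψ a) from RingHom.congr_fun hγφ a, hι']
    · have hPne : P ≠ ⊥ := fun h => ht0 (by rw [h] at htP; exact htP)
      obtain ⟨u, rfl⟩ := hu
      haveI : ValuationRing D := by
        haveI : IsIntegrallyClosed D := isIntegrallyClosed_of_isLocalization D P.primeCompl P.primeCompl_le_nonZeroDivisors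
        refine RatExt.valuationRing_of_dim_le_one ?_
        exact (IsLocalization.AtPrime.ringKrullDim_eq_height P D).trans_le (WithBot.coe_le_coe.mpr hP1)
      haveI : IsFractionRing D F := IsFractionRing.isFractionRing_of_isDomain_of_isLocalization P.primeCompl D F
      by_contra hnot
      rcases ValuationRing.isInteger_or_isInteger D ((ι.comp γ) u) with h | h
      · exact hnot h
      obtain ⟨d, hd⟩ := h
      have hd' : algebraMap D F d = (ι.comp γ) ↑u⁻¹ := by
        rw [hd]
        exact (eq_inv_of_mul_eq_one_left (by rw [← map_mul, Units.inv_mul, map_one])).symm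
      have hdm : d ∈ maximalIdeal D := fun hu' => hnot ⟨↑(hu'.unit⁻¹), by
        refine left_inv_eq_right_inv (a := (ι.comp γ) ↑u⁻¹) ?_ (by rw [← map_mul, Units.inv_mul, map_one])
        rw [← hd', ← map_mul, IsUnit.val_inv_mul, map_one]⟩
      obtain ⟨o, ho⟩ : (ι.comp γ) ↑u⁻¹ ∈ Set.range (algebraMap O F) := by
        refine S2111.result _ fun Q hQ hQ1 => ?_
        by_cases htQ : t ∈ Q
        · have hPQ : P = Q := by
            by_contra hne
            have h1 := Ideal.height_strict_mono_of_isPrime (lt_of_le_of_ne (hP Q hQ htQ) hne)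
            rw [hQ1] at h1
            have h2 : P.height = 0 := by
              rcases ENat.lt_one_iff_eq_zero.mp h1 with h2
              exact h2
            rw [Ideal.height_eq_zero_iff, IsDomain.minimalPrimes_eq_singleton_bot] at h2
            exact hPne h2
          subst hPQ
          exact ⟨d, hd'⟩
        · obtain ⟨⟨a, s⟩, has⟩ := IsLocalization.surj (Submonoid.powers t) (γ ↑u⁻¹)
          obtain ⟨n, hn⟩ := s.2
          have hs : (s : O) ∈ Q.primeCompl := hn ▸ fun h => htQ (hQ.mem_of_pow_mem _ h)
          refine ⟨IsLocalization.mk' (Localization.AtPrime Q) a ⟨(s : O), hs⟩, ?_⟩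
          have h := congrArg ι has
          rw [map_mul, hι', hι'] at h
          have hs0 : algebraMap O F (s : O) ≠ 0 := fun h0 =>
            hs ((IsFractionRing.injective O F (h0.trans (map_zero _).symm)) ▸ Q.zero_mem)
          refine mul_right_cancel₀ hs0 (Eq.trans ?_ h.symm)
          rw [IsScalarTower.algebraMap_apply O (Localization.AtPrime Q) F (s : O), ← map_mul,
            IsScalarTower.algebraMap_apply O (Localization.AtPrime Q) F a]
          exact congrArg _ (IsLocalization.mk'_spec _ a ⟨(s : O), hs⟩)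
      have hoP : o ∈ P := by
        have h1 : algebraMap O D o = d := IsFractionRing.injective D F (by
          rw [← IsScalarTower.algebraMap_apply, ho, hd'])
        rw [← h1] at hdm
        rw [← IsLocalization.AtPrime.comap_maximalIdeal D P]
        exact hdm
      have hom : ev o ∈ maximalIdeal A := fun hu' => (IsLocalRing.le_maximalIdeal (Ideal.IsPrime.ne_top ‹_›) hoP)
        ((isUnit_map_iff ev o).mp hu')
      have hev1 : algebraMap A K (ev o) = algebraMap A K 1 := by
        have hιinj : Function.Injective ι := by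
          intro p q hpq
          obtain ⟨⟨a, s⟩, has⟩ := IsLocalization.surj (Submonoid.powers t) p
          obtain ⟨⟨a', s'⟩, has'⟩ := IsLocalization.surj (Submonoid.powers t) q
          have e1 := congrArg ι has
          have e2 := congrArg ι has'
          rw [map_mul, hι', hι'] at e1 e2
          have e3 : algebraMap O F (a * s') = algebraMap O F (a' * s) := by
            rw [map_mul, map_mul, ← e1, ← e2, hpq]; ring
          have e4 := congrArg (algebraMap O O') (IsFractionRing.injective O F e3)
          rw [map_mul, map_mul, ← has, ← has'] at e4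
          have hu1 : IsUnit (algebraMap O O' (s : O) * algebraMap O O' (s' : O)) :=
            (IsLocalization.map_units O' s).mul (IsLocalization.map_units O' s')
          refine hu1.mul_left_injective ?_
          show p * _ = q * _
          linear_combination e4
        have h1 : algebraMap O O' o = γ ↑u⁻¹ := hιinj (by rw [hι', ho]; rfl)
        rw [← RingHom.comp_apply (algebraMap A K) ev, ← hev, RingHom.comp_apply, h1, ← RingHom.comp_apply ev', hγε,
          RingHom.comp_apply]
        congr 1
        have := congrArg ε u.inv_mul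
        rw [map_mul, hε, mul_one, map_one] at this
        exact this
      exact hom ((IsFractionRing.injective A K hev1) ▸ isUnit_one)
  · exact (map_zero (ι.comp γ)).symm ▸ zero_mem _
  · exact (map_one (ι.comp γ)).symm ▸ one_mem _
  · intro a c _ _ ha hc
    rw [map_add]; exact add_mem ha hc
  · intro a _ ha
    rw [map_neg]; exact neg_mem ha
  · intro a c _ _ ha hc
    rw [map_mul]; exact mul_mem ha hc

end algebra

variable {A : Type u} [CommRing A] [IsDomain A] [IsDiscreteValuationRing A]

/-- A point of codimension one of the special fibre lifts along a morphism of the generic fibre into a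
scheme cut out by units with value one at the section. -/
theorem exists_codim_one_lift {X : Scheme.{u}} (pX : X ⟶ Spec (CommRingCat.of A)) [Smooth pX]
    (e : Spec (CommRingCat.of A) ⟶ X) (he : e ≫ pX = 𝟙 _)
    (x : X) (hx : pX x = closedPoint A) (hmax : ∀ y : X, pX y = closedPoint A → x ⤳ y)
    {B : Type u} [CommRing B] (φ : A →+* B) (ε : B →+* A)
    (hgen : Subring.closure (Set.range φ ∪ {b | IsUnit b ∧ ε b = 1}) = ⊤)
    (w : pullback pX (Neron.genPt A) ⟶ Spec (CommRingCat.of B))
    (hw : w ≫ Spec.map (CommRingCat.ofHom φ) = pullback.snd pX (Neron.genPt A) ≫ Neron.genPt A)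
    (hε : pullback.lift (Neron.genPt A ≫ e) (𝟙 _) (by rw [Category.assoc, he]; simp) ≫ w =
      Neron.genPt A ≫ Spec.map (CommRingCat.ofHom ε)) :
    ∃ (D : Type u) (_ : CommRing D) (_ : IsLocalRing D) (L : Type u) (_ : Field L) (i : D →+* L)
      (j : Spec (CommRingCat.of D) ⟶ X) (t : Spec (CommRingCat.of D) ⟶ Spec (CommRingCat.of B))
      (l : Spec (CommRingCat.of L) ⟶ pullback pX (Neron.genPt A)),
      t ≫ Spec.map (CommRingCat.ofHom φ) = j ≫ pX ∧ j (closedPoint D) = x ∧
      l ≫ pullback.fst pX (Neron.genPt A) = Spec.map (CommRingCat.ofHom i) ≫ j ∧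
      Spec.map (CommRingCat.ofHom i) ≫ t = l ≫ w := by
  haveI : IsLocallyNoetherian X := LocallyOfFiniteType.isLocallyNoetherian pX
  obtain ⟨e0, he0⟩ : ∃ e0, e (closedPoint A) = e0 := ⟨_, rfl⟩
  haveI hreg : IsRegularLocalRing (X.presheaf.stalk e0) :=
    WeilExt.regular_of_smooth WeilExt.regular_spec pX e0
  obtain ⟨ev, hevloc, hev⟩ := RatExt.exists_stalk_map e e0 he0
  haveI := hevloc
  obtain ⟨ψ, hψ⟩ : ∃ ψ, Spec.map ψ = X.fromSpecStalk e0 ≫ pX := ⟨_, Spec.map_preimage _⟩
  have hψev : ψ ≫ ev = 𝟙 _ := Spec.map_injective (by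
    rw [Spec.map_comp, hψ, reassoc_of% hev, he, Spec.map_id])
  let O := X.presheaf.stalk e0
  haveI : IsDomain O := RegLoc.isDomain O
  haveI : IsIntegrallyClosed O := RegLoc.isIntegrallyClosed
  have hψinj : Function.Injective ψ.hom := fun a c h => by
    have h2 := congrArg ev.hom h
    rwa [← CommRingCat.comp_apply, ← CommRingCat.comp_apply, hψev] at h2
  obtain ⟨ϖ, hϖ⟩ := IsDiscreteValuationRing.exists_irreducible A
  let t : O := ψ.hom ϖ
  have ht0 : t ≠ 0 := fun h => hϖ.ne_zero (hψinj (h.trans (map_zero _).symm))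
  have hxe : x ⤳ e0 := hmax e0 (by rw [← he0, ← Scheme.Hom.comp_apply, he]; rfl)
  obtain ⟨P, hP⟩ := Scheme.range_fromSpecStalk.ge hxe
  have hspecial : ∀ Q : PrimeSpectrum O, t ∈ Q.asIdeal ↔ pX (X.fromSpecStalk e0 Q) = closedPoint A := fun Q => by
    rw [← Scheme.Hom.comp_apply, ← hψ]
    refine ⟨fun h => PrimeSpectrum.ext (IsLocalRing.eq_maximalIdeal ((Q.isPrime.comap ψ.hom).isMaximal ?_)),
      fun h => ?_⟩
    · intro h0
      have hϖ0 : ϖ ∈ Q.asIdeal.comap ψ.hom := h
      rw [h0] at hϖ0
      exact hϖ.ne_zero hϖ0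
    · have h1 : Q.asIdeal.comap ψ.hom = maximalIdeal A := congrArg PrimeSpectrum.asIdeal h
      show ϖ ∈ Q.asIdeal.comap ψ.hom
      rw [h1]
      exact hϖ.not_isUnit
  have htP : t ∈ P.asIdeal := (hspecial P).2 (by rw [hP, hx])
  have hPmin : ∀ Q : Ideal O, Q.IsPrime → t ∈ Q → P.asIdeal ≤ Q := fun Q hQ htQ => by
    have h1 := hmax _ ((hspecial ⟨Q, hQ⟩).1 htQ)
    rw [← hP, (X.fromSpecStalk e0).isEmbedding.isInducing.specializes_iff] at h1
    exact (PrimeSpectrum.le_iff_specializes P ⟨Q, hQ⟩).2 h1
  have hP1 : P.asIdeal.height ≤ 1 := by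
    have hmem : P.asIdeal ∈ (Ideal.span {t}).minimalPrimes :=
      ⟨⟨P.isPrime, (Ideal.span_singleton_le_iff_mem _).2 htP⟩, fun Q hQ _ =>
        hPmin Q hQ.1 (hQ.2 (Ideal.mem_span_singleton_self t))⟩
    haveI : (Ideal.span {t}).IsPrincipal := ⟨t, rfl⟩
    exact Ideal.height_le_one_of_isPrincipal_of_mem_minimalPrimes _ _ hmem
  let O' := Localization.Away t
  let F := FractionRing O
  let K := FractionRing A
  have hu : IsUnit (algebraMap O F t) :=
    IsUnit.mk0 _ fun h => ht0 (IsFractionRing.injective O F (h.trans (map_zero _).symm))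
  let ι : O' →+* F := IsLocalization.Away.lift t hu
  have hι : ι.comp (algebraMap O O') = algebraMap O F := IsLocalization.Away.lift_comp t hu
  have hnd : ∀ a : nonZeroDivisors A, IsUnit (((algebraMap O O').comp ψ.hom) a) := fun a => by
    obtain ⟨n, u, hnu⟩ := IsDiscreteValuationRing.eq_unit_mul_pow_irreducible (nonZeroDivisors.ne_zero a.2) hϖ
    rw [hnu, map_mul, map_pow, RingHom.comp_apply, RingHom.comp_apply]
    exact ((u.isUnit.map ψ.hom).map _).mul ((IsLocalization.Away.algebraMap_isUnit t).pow n)
  let κ : K →+* O' := IsLocalization.lift hnd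
  have hκ : κ.comp (algebraMap A K) = (algebraMap O O').comp ψ.hom := IsLocalization.lift_comp hnd
  have hue : IsUnit (((algebraMap A K).comp ev.hom) t) := by
    refine IsUnit.mk0 _ fun h => ?_
    rw [RingHom.comp_apply] at h
    have h2 := IsFractionRing.injective A K (h.trans (map_zero _).symm)
    have h3 : (ψ ≫ ev).hom ϖ = 0 := h2
    rw [hψev] at h3
    exact hϖ.ne_zero h3
  let ev' : O' →+* K := IsLocalization.Away.lift t hue
  have hev' : ev'.comp (algebraMap O O') = (algebraMap A K).comp ev.hom := IsLocalization.Away.lift_comp t hue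
  let g : Spec (CommRingCat.of O') ⟶ pullback pX (Neron.genPt A) :=
    pullback.lift (Spec.map (CommRingCat.ofHom (algebraMap O O')) ≫ X.fromSpecStalk e0)
      (Spec.map (CommRingCat.ofHom κ)) (by
        rw [Category.assoc, ← hψ, ← Spec.map_comp, ← Spec.map_comp]
        exact congrArg Spec.map (CommRingCat.hom_ext hκ.symm))
  obtain ⟨γ, hγ⟩ := Spec.map_surjective (g ≫ w)
  have hγφ : γ.hom.comp φ = (algebraMap O O').comp ψ.hom := by
    rw [← hκ]
    suffices CommRingCat.ofHom φ ≫ γ = CommRingCat.ofHom (algebraMap A K) ≫ CommRingCat.ofHom κ from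
      congrArg CommRingCat.Hom.hom this
    apply Spec.map_injective
    rw [Spec.map_comp, Spec.map_comp, hγ, Category.assoc, hw, pullback.lift_snd_assoc]
  have hge : Spec.map (CommRingCat.ofHom ev') ≫ g =
      pullback.lift (Neron.genPt A ≫ e) (𝟙 _) (by rw [Category.assoc, he]; simp) := by
    apply pullback.hom_ext
    · rw [Category.assoc, pullback.lift_fst, pullback.lift_fst, ← Category.assoc, ← Spec.map_comp, ← hev,
        ← Category.assoc, ← Spec.map_comp]
      exact congrArg (fun f => Spec.map f ≫ X.fromSpecStalk e0) (CommRingCat.hom_ext hev')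
    · rw [Category.assoc, pullback.lift_snd, pullback.lift_snd, ← Spec.map_comp, ← Spec.map_id]
      congr 1
      refine CommRingCat.hom_ext (IsLocalization.ringHom_ext (nonZeroDivisors A) ?_)
      show (ev'.comp κ).comp (algebraMap A K) = _
      rw [RingHom.comp_assoc, hκ, ← RingHom.comp_assoc, hev', RingHom.comp_assoc,
        show ev.hom.comp ψ.hom = RingHom.id A from congrArg CommRingCat.Hom.hom hψev]
      rfl
  have hγε : ev'.comp γ.hom = (algebraMap A K).comp ε := by
    suffices γ ≫ CommRingCat.ofHom ev' = CommRingCat.ofHom ε ≫ CommRingCat.ofHom (algebraMap A K) from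
      congrArg CommRingCat.Hom.hom this
    apply Spec.map_injective
    rw [Spec.map_comp, Spec.map_comp, hγ, reassoc_of% hge]
    exact hε
  have hrange := mem_range_localization t P.asIdeal htP hPmin hP1 ht0 O' ι hι ev.hom ev' hev'
    φ ψ.hom ε hgen γ.hom hγφ hγε
  let D := Localization.AtPrime P.asIdeal
  have hDF : Function.Injective (algebraMap D F) := by
    haveI : IsFractionRing D F := IsFractionRing.isFractionRing_of_isDomain_of_isLocalization P.asIdeal.primeCompl D F
    exact IsFractionRing.injective D F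
  let eR := RingEquiv.ofBijective (algebraMap D F).rangeRestrict
    ⟨fun a c h => hDF (congrArg Subtype.val h), (algebraMap D F).rangeRestrict_surjective⟩
  let βD : B →+* D := eR.symm.toRingHom.comp
    ((ι.comp γ.hom).codRestrict (algebraMap D F).range fun b => hrange ⟨b, rfl⟩)
  have hβ : (algebraMap D F).comp βD = ι.comp γ.hom :=
    RingHom.ext fun b => congrArg Subtype.val (eR.apply_symm_apply _)
  let jD : Spec (CommRingCat.of D) ⟶ X := Spec.map (CommRingCat.ofHom (algebraMap O D)) ≫ X.fromSpecStalk e0
  refine ⟨D, inferInstance, inferInstance, F, inferInstance, algebraMap D F, jD,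
    Spec.map (CommRingCat.ofHom βD), Spec.map (CommRingCat.ofHom ι) ≫ g, ?_, ?_, ?_, ?_⟩
  · have hA : βD.comp φ = (algebraMap O D).comp ψ.hom := by
      refine RingHom.ext fun a => hDF ?_
      rw [← RingHom.comp_apply, ← RingHom.comp_assoc, hβ, RingHom.comp_assoc, hγφ, ← RingHom.comp_assoc, hι,
        RingHom.comp_apply, RingHom.comp_apply, ← IsScalarTower.algebraMap_apply O D F]
    show _ = (Spec.map (CommRingCat.ofHom (algebraMap O D)) ≫ X.fromSpecStalk e0) ≫ pX
    rw [Category.assoc, ← hψ, ← Spec.map_comp, ← Spec.map_comp]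
    exact congrArg Spec.map (CommRingCat.hom_ext hA)
  · show (Spec.map (CommRingCat.ofHom (algebraMap O D)) ≫ X.fromSpecStalk e0) (closedPoint D) = x
    rw [Scheme.Hom.comp_apply, ← hP]
    congr 1
    exact PrimeSpectrum.ext (IsLocalization.AtPrime.comap_maximalIdeal D P.asIdeal)
  · show (Spec.map (CommRingCat.ofHom ι) ≫ g) ≫ _ =
      Spec.map (CommRingCat.ofHom (algebraMap D F)) ≫ Spec.map (CommRingCat.ofHom (algebraMap O D)) ≫ X.fromSpecStalk e0
    rw [Category.assoc, pullback.lift_fst, ← Category.assoc, ← Spec.map_comp, ← Category.assoc, ← Spec.map_comp]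
    exact congrArg (fun f => Spec.map f ≫ X.fromSpecStalk e0)
      (CommRingCat.hom_ext (hι.trans (IsScalarTower.algebraMap_eq O D F)))
  · rw [Category.assoc, ← hγ, ← Spec.map_comp, ← Spec.map_comp]
    exact congrArg Spec.map (CommRingCat.hom_ext hβ)

end Groth.Agent.MTExt
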