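import Groth.Agent.MTExt.Core
import Groth.Agent.NeronCrit.Lft
import Groth.Agent.MTBridge.Charts
import Groth.Agent.MTBridge.BaseChange
import Groth.Agent.MTBridge.ActTrivGeo
import Groth.Agent.MTBridge.CentralNhd
import Groth.Agent.MultT.Quasi

/-!
# Extension of homomorphisms into groups of multiplicative type: the codimension one step

Over a DVR, a morphism of generic fibres from a smooth group with connected fibres into a group of
multiplicative type which respects the unit extends to the generic point of the special fibre.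
-/

set_option autoImplicit false
set_option linter.style.haveILetI false
set_option backward.isDefEq.respectTransparency false
set_option backward.isDefEq.respectTransparency.types false
set_option synthInstance.maxHeartbeats 400000
set_option maxHeartbeats 1000000

universe u

open CategoryTheory CategoryTheory.Limits MonoidalCategory CartesianMonoidalCategory AlgebraicGeometry IsLocalRing
open MonObj
open scoped CategoryTheory.Obj

noncomputable section

namespace Groth.Agent.MTExt

variable {A : Type u} [CommRing A] [IsDomain A] [IsDiscreteValuationRing A]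

/-- A strictly henselian faithfully flat extension of a DVR. -/
theorem exists_strict_dvr (A : Type u) [CommRing A] [IsDomain A] [IsDiscreteValuationRing A] :
    ∃ (A' : Type u) (_ : CommRing A') (_ : IsDomain A') (_ : IsDiscreteValuationRing A') (_ : Algebra A A')
      (_ : IsLocalHom (algebraMap A A')) (_ : HenselianLocalRing A') (_ : IsSepClosed (ResidueField A')),
      Module.FaithfullyFlat A A' := by
  obtain ⟨T, _, _, _, hloc, hH⟩ : ∃ (T : Type u) (_ : CommRing T) (_ : IsLocalRing T) (_ : Algebra A T)
      (_ : IsLocalHom (algebraMap A T)), _root_.Hensel.IsStrictHenselization A T := by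
    obtain ⟨hloc, hH⟩ := Hensel.exists_strictHenselization A
    exact ⟨_, inferInstance, inferInstance, inferInstance, hloc, hH⟩
  haveI := hloc
  haveI := hH
  haveI : HenselianLocalRing T := hH.henselian
  haveI : IsSepClosure (ResidueField A) (ResidueField T) := hH.isSepClosure
  haveI : IsSepClosed (ResidueField T) := IsSepClosure.sep_closed (ResidueField A)
  obtain ⟨hd, hreg, hdim⟩ := (Hensel.dvr_iff A).1 ⟨inferInstance, inferInstance⟩
  haveI := hreg
  haveI : IsNoetherianRing T := (Hensel.strictHenselization_isNoetherianRing_iff A T).1 inferInstance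
  haveI : IsRegularLocalRing T := (Hensel.strictHenselization_isRegularLocalRing_iff A T).2 hreg
  haveI : IsDomain T := RegLoc.isDomain T
  obtain ⟨hd2, hdvr⟩ := (Hensel.dvr_iff T).2
    ⟨inferInstance, inferInstance, (Hensel.strictHenselization_ringKrullDim A T).trans hdim⟩
  haveI := hdvr
  exact ⟨T, inferInstance, inferInstance, hdvr, inferInstance, hloc, inferInstance, inferInstance,
    Hensel.strictHenselization_faithfullyFlat A T⟩

theorem exists_fraction_map {A A' : Type u} [CommRing A] [IsDomain A] [CommRing A'] (f : A →+* A')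
    (hf : Function.Injective f) (K K' : Type u) [Field K] [Algebra A K] [IsFractionRing A K] [Field K']
    [Algebra A' K'] (hK' : Function.Injective (algebraMap A' K')) : ∃ κ : K →+* K',
      κ.comp (algebraMap A K) = (algebraMap A' K').comp f := by
  have h : Function.Injective ((algebraMap A' K').comp f) := hK'.comp hf
  exact ⟨IsFractionRing.lift h, RingHom.ext fun a => IsFractionRing.lift_algebraMap h a⟩

/-- The unit section of a base change. -/
theorem one_bc_fst {S : Scheme.{u}} {R : Type u} [CommRing R] (c : Spec (CommRingCat.of R) ⟶ S) (G : Over S)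
    [GrpObj G] :
    (1 : Over.mk (𝟙 (Spec (CommRingCat.of R))) ⟶ Red.bc c G).left ≫ pullback.fst G.hom c =
      c ≫ (1 : Over.mk (𝟙 S) ⟶ G).left := by
  let b : (Over.map c).obj (Over.mk (𝟙 (Spec (CommRingCat.of R)))) ⟶ Over.mk (𝟙 S) :=
    Over.homMk c (by simp)
  have h := congrArg CommaMorphism.left
    ((MTBridge.fromBC_one (j := c) (G := G) (X := Over.mk (𝟙 _))).trans (MonObj.comp_one b).symm)
  refine Eq.trans ?_ h
  simp [MTBridge.fromBC, Over.mapPullbackAdj]

/-- A point of codimension one of the special fibre lifts. -/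
theorem exists_lift_special (H T : Over (Spec (CommRingCat.of A))) [GrpObj H] [GrpObj T] [Smooth H.hom]
    [GeometricallyIrreducible H.hom]
    (hT : SGA3x.IsMultTypeFT T)
    (wK : pullback H.hom (Neron.genPt A) ⟶ T.left)
    (hw : wK ≫ T.hom = pullback.fst H.hom (Neron.genPt A) ≫ H.hom)
    (hone : pullback.lift (Neron.genPt A ≫ (1 : Over.mk (𝟙 (Spec (CommRingCat.of A))) ⟶ H).left) (𝟙 _)
        (by rw [Category.assoc, Over.w]; simp) ≫ wK =
      Neron.genPt A ≫ (1 : Over.mk (𝟙 (Spec (CommRingCat.of A))) ⟶ T).left)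
    (x : H.left) (hx : H.hom x = closedPoint A) (hmax : ∀ y, H.hom y = closedPoint A → x ⤳ y) :
    ∃ (D : Type u) (_ : CommRing D) (_ : IsLocalRing D) (L : Type u) (_ : Field L) (i : D →+* L)
      (j : Spec (CommRingCat.of D) ⟶ H.left) (t : Spec (CommRingCat.of D) ⟶ T.left)
      (l : Spec (CommRingCat.of L) ⟶ pullback H.hom (Neron.genPt A)),
      t ≫ T.hom = j ≫ H.hom ∧ j (closedPoint D) = x ∧
      l ≫ pullback.fst H.hom (Neron.genPt A) = Spec.map (CommRingCat.ofHom i) ≫ j ∧
      Spec.map (CommRingCat.ofHom i) ≫ t = l ≫ wK := by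
  obtain ⟨A', _, _, _, _, hloc, _, _, hff⟩ := exists_strict_dvr A
  haveI := hloc
  haveI := hff
  let c : Spec (CommRingCat.of A') ⟶ Spec (CommRingCat.of A) := Spec.map (CommRingCat.ofHom (algebraMap A A'))
  let H' := Red.bc c H
  let T' := Red.bc c T
  haveI : Smooth H'.hom := inferInstanceAs (Smooth (pullback.snd H.hom c))
  -- the special fibre of the base change is irreducible
  haveI : GeometricallyIrreducible H'.hom :=
    MorphismProperty.pullback_snd _ _ ‹GeometricallyIrreducible H.hom›
  haveI : IrreducibleSpace ↥(H'.hom.fiber (closedPoint A')) := inferInstance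
  obtain ⟨g0, hg0⟩ : ∃ g0, g0 = genericPoint ↥(H'.hom.fiber (closedPoint A')) := ⟨_, rfl⟩
  obtain ⟨x', hx'⟩ : ∃ x', x' = H'.hom.fiberι (closedPoint A') g0 := ⟨_, rfl⟩
  have hx's : H'.hom x' = closedPoint A' := by
    rw [hx']
    exact (Scheme.Hom.range_fiberι H'.hom _).le ⟨g0, rfl⟩
  have hmax' : ∀ y, H'.hom y = closedPoint A' → x' ⤳ y := fun y hy => by
    obtain ⟨z, rfl⟩ := (Scheme.Hom.range_fiberι H'.hom (closedPoint A')).ge hy
    rw [hx', hg0]
    exact (genericPoint_specializes z).map (H'.hom.fiberι _).continuous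
  have hcc : c (closedPoint A') = closedPoint A := IsLocalRing.comap_closedPoint (algebraMap A A')
  have hxx : pullback.fst H.hom c x' = x := by
    obtain ⟨y, hy, hy'⟩ := Scheme.Pullback.exists_preimage_pullback (f := H.hom) (g := c) x (closedPoint A')
      (hx.trans hcc.symm)
    have h1 : pullback.fst H.hom c x' ⤳ x :=
      hy ▸ (hmax' y hy').map (pullback.fst H.hom c).continuous
    have h2 : x ⤳ pullback.fst H.hom c x' := hmax _ (by
      rw [← Scheme.Hom.comp_apply, pullback.condition, Scheme.Hom.comp_apply]
      exact (congrArg c hx's).trans hcc)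
    exact (h1.antisymm h2).eq
  -- the Hopf algebra of the split group
  obtain ⟨B, _, _, hB, _, ⟨eT⟩⟩ := MTBridge.exists_hopf T' (MTBridge.isMultTypeFT_bc T c hT)
  obtain ⟨M, _, ⟨eM⟩⟩ := MultT.isDiag_of_strict hB
  let ε : B →+* A' := (Bialgebra.counitAlgHom A' B).toRingHom
  have hgen : Subring.closure (Set.range (algebraMap A' B) ∪ {b | IsUnit b ∧ ε b = 1}) = ⊤ := by
    refine eq_top_iff.2 fun b _ => ?_
    obtain ⟨m, rfl⟩ : ∃ m, eM.symm m = b := ⟨eM b, eM.symm_apply_apply b⟩
    induction m using MonoidAlgebra.induction_linear with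
    | zero => rw [map_zero]; exact zero_mem _
    | add p q hp hq => rw [map_add]; exact add_mem (hp trivial) (hq trivial)
    | single g a =>
      have hs : MonoidAlgebra.single g a = algebraMap A' (MonoidAlgebra A' M) a * MonoidAlgebra.single g 1 := by
        simp
      rw [hs, map_mul]
      refine mul_mem (Subring.subset_closure (Or.inl ⟨a, ?_⟩)) (Subring.subset_closure (Or.inr ⟨?_, ?_⟩))
      · exact (eM.symm.toAlgEquiv.commutes a).symm
      · refine ⟨⟨eM.symm (MonoidAlgebra.single g 1), eM.symm (MonoidAlgebra.single g⁻¹ 1), ?_, ?_⟩, rfl⟩ <;>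
          rw [← map_mul, MonoidAlgebra.single_mul_single] <;> simp [← MonoidAlgebra.one_def]
      · show Coalgebra.counit (R := A') (eM.symm (MonoidAlgebra.single g 1)) = 1
        rw [CoalgHomClass.counit_comp_apply]
        simp
  let eT₀ : T' ⟶ (MTBridge.specGrp A' B).X := eT.hom.hom.hom
  haveI : IsMonHom eT₀ := inferInstanceAs (IsMonHom eT.hom.hom.hom)
  let τ : T'.left ⟶ Spec (CommRingCat.of B) := eT₀.left
  have hτ : τ ≫ Spec.map (CommRingCat.ofHom (algebraMap A' B)) = T'.hom := Over.w eT₀
  have hτ1 : (1 : Over.mk (𝟙 (Spec (CommRingCat.of A'))) ⟶ T').left ≫ τ = Spec.map (CommRingCat.ofHom ε) := by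
    have h : (1 : Over.mk (𝟙 (Spec (CommRingCat.of A'))) ⟶ T') ≫ eT₀ = 1 := MonObj.one_comp eT₀
    refine (congrArg CommaMorphism.left h).trans ?_
    rw [Hom.one_def]
    show (toUnit (Over.mk (𝟙 (Spec (CommRingCat.of A'))))).left ≫ η[(MTBridge.specGrp A' B).X].left = _
    exact (congrArg (_ ≫ ·) one_spec_asOver_spec_left).trans (Category.id_comp _)
  -- the morphism on the generic fibre
  obtain ⟨κ, hκ'⟩ := exists_fraction_map (A := A) (A' := A') (algebraMap A A')
    (FaithfulSMul.algebraMap_injective A A') (FractionRing A) (FractionRing A') (IsFractionRing.injective A' _)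
  have hκ : Neron.genPt A' ≫ c = Spec.map (CommRingCat.ofHom κ) ≫ Neron.genPt A := by
    rw [← Spec.map_comp, ← Spec.map_comp]
    exact congrArg Spec.map (CommRingCat.hom_ext hκ'.symm)
  let m : pullback H'.hom (Neron.genPt A') ⟶ pullback H.hom (Neron.genPt A) :=
    pullback.lift (pullback.fst H'.hom (Neron.genPt A') ≫ pullback.fst H.hom c)
      (pullback.snd H'.hom (Neron.genPt A') ≫ Spec.map (CommRingCat.ofHom κ))
      (by rw [Category.assoc, pullback.condition, Category.assoc, ← hκ]; exact pullback.condition_assoc c)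
  let wT : pullback H'.hom (Neron.genPt A') ⟶ T'.left :=
    pullback.lift (m ≫ wK) (pullback.snd H'.hom (Neron.genPt A') ≫ Neron.genPt A') (by
      rw [Category.assoc, hw, pullback.lift_fst_assoc, Category.assoc, pullback.condition, Category.assoc]
      exact pullback.condition_assoc c)
  have hone' : pullback.lift (Neron.genPt A' ≫ (1 : Over.mk (𝟙 (Spec (CommRingCat.of A'))) ⟶ H').left) (𝟙 _)
      (by rw [Category.assoc, Over.w]; simp) ≫ wT =
      Neron.genPt A' ≫ (1 : Over.mk (𝟙 (Spec (CommRingCat.of A'))) ⟶ T').left := by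
    apply pullback.hom_ext
    · rw [Category.assoc, pullback.lift_fst]
      refine Eq.trans ?_ ((Category.assoc _ _ _).trans
        ((congrArg (Neron.genPt A' ≫ ·) (one_bc_fst c T)).trans
          ((reassoc_of% hκ) _))).symm
      rw [← hone]
      refine Eq.trans ?_ (Category.assoc _ _ _)
      refine Eq.trans (Category.assoc _ _ _).symm ?_
      congr 1
      apply pullback.hom_ext
      · simp only [m, Category.assoc, pullback.lift_fst, pullback.lift_fst_assoc]
        rw [one_bc_fst, reassoc_of% hκ]
      · simp only [m, Category.assoc, pullback.lift_snd, pullback.lift_snd_assoc, Category.id_comp, Category.comp_id]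
    · rw [Category.assoc, pullback.lift_snd, pullback.lift_snd_assoc, Category.id_comp, Category.assoc]
      exact ((congrArg (Neron.genPt A' ≫ ·)
        (Over.w (1 : Over.mk (𝟙 (Spec (CommRingCat.of A'))) ⟶ T'))).trans (Category.comp_id _)).symm
  obtain ⟨D, _, _, L, _, i, j, t, l, h1, h2, h3, h4⟩ := exists_codim_one_lift H'.hom
    (1 : Over.mk (𝟙 (Spec (CommRingCat.of A'))) ⟶ H').left (Over.w _) x' hx's hmax'
    (algebraMap A' B) ε hgen (wT ≫ τ)
    (by rw [Category.assoc, hτ]; exact pullback.lift_snd _ _ _)
    (by rw [← Category.assoc, hone', Category.assoc, hτ1])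
  haveI : IsIso τ := by
    haveI : IsIso eT₀ := ((Grp.forget _).mapIso eT).isIso_hom
    exact inferInstanceAs (IsIso ((Over.forget _).map eT₀))
  refine ⟨D, inferInstance, inferInstance, L, inferInstance, i, j ≫ pullback.fst H.hom c,
    t ≫ inv τ ≫ pullback.fst T.hom c, l ≫ m, ?_, ?_, ?_, ?_⟩
  · have h5 : (t ≫ inv τ) ≫ T'.hom = j ≫ H'.hom := by
      rw [Category.assoc, ← hτ, IsIso.inv_hom_id_assoc, h1]
    rw [Category.assoc, Category.assoc, pullback.condition, Category.assoc, pullback.condition]
    exact (Category.assoc _ _ _).symm.trans ((Category.assoc _ _ _).symm.trans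
      ((congrArg (· ≫ c) h5).trans (Category.assoc _ _ _)))
  · rw [Scheme.Hom.comp_apply, h2]
    exact hxx
  · rw [Category.assoc, pullback.lift_fst, reassoc_of% h3]
  · rw [reassoc_of% h4, IsIso.hom_inv_id_assoc, pullback.lift_fst, Category.assoc]

end Groth.Agent.MTExt
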