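import Groth.Agent.Chev.MultRigid
import Groth.Agent.Assoc.Kernel
import Groth.Agent.MTKernel.Basic

/-!
# Extensions of groups of multiplicative type are central and commutative
-/

set_option autoImplicit false
set_option linter.style.haveILetI false
set_option backward.isDefEq.respectTransparency false
set_option maxHeartbeats 1000000
set_option synthInstance.maxHeartbeats 400000

universe u

open CategoryTheory CategoryTheory.Limits MonoidalCategory CartesianMonoidalCategory MonObj AlgebraicGeometry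
open Groth.Agent.Chev.MultRigid
open scoped CategoryTheory.Obj

noncomputable section

namespace Groth.Agent.MTExt

variable {S : Scheme.{u}}

/-- Points over the fibre at `s`. -/
def OverPt (s : S) (X : Over S) : Prop :=
  ∃ w : X.left ⟶ Spec (S.residueField s), w ≫ S.fromSpecResidueField s = X.hom

theorem OverPt.comp {s : S} {X Y : Over S} (h : OverPt s X) (c : Y ⟶ X) : OverPt s Y := by
  obtain ⟨w, hw⟩ := h
  exact ⟨c.left ≫ w, by rw [Category.assoc, hw, Over.w c]⟩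

/-- A family of homomorphisms between groups of multiplicative type is trivial if on each fibre it is
either trivial at some point of a connected parameter space, or trivial. -/
theorem eq_one_of_fibres {E H H' : Over S} [GrpObj H] [GrpObj H'] (hH : SGA3x.IsMultTypeFT H)
    (hH' : SGA3x.IsMultTypeFT H') (d : H ⊗ E ⟶ H')
    (hd : ∀ (X : Over S) (a b : X ⟶ H) (e : X ⟶ E), lift (a * b) e ≫ d = (lift a e ≫ d) * (lift b e ≫ d))
    (e₀ : 𝟙_ (Over S) ⟶ E)
    (hs : ∀ s : S,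
      (_root_.IsConnected (E.hom.base ⁻¹' {s}) ∧
        ∀ (X : Over S) (a : X ⟶ H), lift a (toUnit X ≫ e₀) ≫ d = 1) ∨
      ∀ (X : Over S), OverPt s X → ∀ (a : X ⟶ H) (e : X ⟶ E), lift a e ≫ d = 1) :
    ∀ (X : Over S) (a : X ⟶ H) (e : X ⟶ E), lift a e ≫ d = 1 := by
  obtain ⟨L, hLc, hL1, hL2⟩ := exists_trivial_locus hH hH' d hd
  suffices hall : ∀ x : E.left, x ∈ L from fun X a e => hL1 X e (fun _ _ => hall _) a
  intro x
  let s := E.hom x
  rcases hs s with ⟨hconn, h0⟩ | hfib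
  · have hmem : e₀.left s ∈ L := by
      let K := S.residueField s
      have h := hL2 K (S.fromSpecResidueField s ≫ e₀.left) (fun X y hy a => ?_) (IsLocalRing.closedPoint K)
      · rw [Scheme.Hom.comp_apply] at h
        exact (congrArg (fun w => e₀.left w ∈ L) (S.fromSpecResidueField_apply s _)).mp h
      · have hy' : X.hom = y ≫ S.fromSpecResidueField s := by
          rw [← hy, Category.assoc, show e₀.left ≫ E.hom = 𝟙 _ from Over.w e₀]
          exact congrArg (y ≫ ·) (Category.comp_id _)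
        have he : (Over.homMk (U := X) (y ≫ S.fromSpecResidueField s ≫ e₀.left) (by rw [Category.assoc]; exact hy) : X ⟶ E) =
            toUnit X ≫ e₀ := by
          apply Over.OverMorphism.ext
          show y ≫ S.fromSpecResidueField s ≫ e₀.left = X.hom ≫ e₀.left
          rw [hy', Category.assoc]
        rw [he]
        exact h0 X a
    exact hconn.isPreconnected.subset_isClopen ⟨hLc, L.2⟩
      ⟨e₀.left s, by
        show E.hom (e₀.left s) = s
        rw [← Scheme.Hom.comp_apply, show e₀.left ≫ E.hom = 𝟙 _ from Over.w e₀]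
        rfl, hmem⟩ (show x ∈ E.hom.base ⁻¹' {s} from rfl)
  · let K := E.left.residueField x
    have h := hL2 K (E.left.fromSpecResidueField x) (fun X y hy a => ?_) (IsLocalRing.closedPoint K)
    · exact (congrArg (· ∈ L) (E.left.fromSpecResidueField_apply x _)).mp h
    · refine hfib X ⟨y ≫ Spec.map (E.hom.residueFieldMap x), ?_⟩ _ _
      rw [Category.assoc, Scheme.Hom.SpecMap_residueFieldMap_fromSpecResidueField]
      exact hy

variable {E H K : Over S} [GrpObj E] [GrpObj H] [GrpObj K] (p : E ⟶ K) [IsMonHom p]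
  [Surjective p.left] [Flat p.left] [QuasiCompact p.left] (i : H ⟶ E) [IsMonHom i]

omit [IsMonHom p] [Surjective p.left] [Flat p.left] [QuasiCompact p.left] [IsMonHom i] in
theorem mono_of_kernel (hker : AlgGrp.IsKernel i p) : Mono i :=
  ⟨fun {_} _ _ h => (show IsPullback i (toUnit H) p η[K] from hker).hom_ext h (toUnit_unique _ _)⟩

omit [GrpObj E] [GrpObj H] [IsMonHom p] [IsMonHom i] in
theorem surjective_whisker (T : Over S) :
    Flat (T ◁ p).left ∧ Surjective (T ◁ p).left ∧ QuasiCompact (T ◁ p).left := by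
  have h := Assoc.isPullback_whiskerLeft (Z := T) p
  exact ⟨MorphismProperty.of_isPullback h ‹_›, MorphismProperty.of_isPullback h ‹_›,
    MorphismProperty.of_isPullback h ‹_›⟩

/-- **The kernel is central.** -/
theorem central (hker : AlgGrp.IsKernel i p) (hH : SGA3x.IsMultTypeFT H)
    (hs : ∀ s : S, _root_.IsConnected (K.hom.base ⁻¹' {s}) ∨
      ∀ (X : Over S), OverPt s X → ∀ a b : X ⟶ E, a * b = b * a) :
    ∀ (X : Over S) (h : X ⟶ H) (e : X ⟶ E), (h ≫ i) * e = e * (h ≫ i) := by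
  haveI := mono_of_kernel p i hker
  have hcommH : ∀ {X : Over S} (a b : X ⟶ H), a * b = b * a :=
    fun a b => MTBridge.comm_points_scheme H (MTBridge.locally_of_isMultTypeFT' H hH) a b
  obtain ⟨c, hc⟩ := (MTKernel.exists_lift_iff hker (snd H E * (fst H E ≫ i) * (snd H E)⁻¹)).2 (by
    rw [MonObj.mul_comp, MonObj.mul_comp, GrpObj.inv_comp, Category.assoc,
      Assoc.kernel_comp_eq_one i p hker, _root_.mul_one, mul_inv_cancel])
  let d : H ⊗ E ⟶ H := c * (fst H E)⁻¹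
  have hd' : ∀ {X : Over S} (a : X ⟶ H) (e : X ⟶ E),
      (lift a e ≫ d) ≫ i = e * (a ≫ i) * e⁻¹ * (a ≫ i)⁻¹ := by
    intro X a e
    simp only [d, MonObj.comp_mul, GrpObj.comp_inv, MonObj.mul_comp, GrpObj.inv_comp, lift_fst, Category.assoc, hc,
      lift_snd, lift_fst_assoc]
  obtain ⟨_, _, _⟩ := surjective_whisker p H
  obtain ⟨d', hd''⟩ := exists_desc_fppf (H ◁ p) d (fun T x y hxy => by
    have h1 : x ≫ fst H E = y ≫ fst H E := by
      simpa using congrArg (fun z => z ≫ fst H K) hxy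
    have h2 : (x ≫ snd H E) ≫ p = (y ≫ snd H E) ≫ p := by
      simpa using congrArg (fun z => z ≫ snd H K) hxy
    obtain ⟨h', hh'⟩ := (MTKernel.exists_lift_iff hker ((x ≫ snd H E)⁻¹ * (y ≫ snd H E))).2 (by
      rw [MonObj.mul_comp, GrpObj.inv_comp, h2, inv_mul_cancel])
    have hx : x = lift (x ≫ fst H E) (x ≫ snd H E) :=
      CartesianMonoidalCategory.hom_ext _ _ (by simp) (by simp)
    have hy : y = lift (x ≫ fst H E) ((x ≫ snd H E) * (h' ≫ i)) := by
      rw [hh', mul_inv_cancel_left, h1]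
      exact CartesianMonoidalCategory.hom_ext _ _ (by simp) (by simp)
    rw [hy, hx, ← cancel_mono i]
    simp only [lift_fst, lift_snd, hd']
    have e1 : (h' ≫ i) * ((x ≫ fst H E) ≫ i) = ((x ≫ fst H E) ≫ i) * (h' ≫ i) := by
      rw [← MonObj.mul_comp, ← MonObj.mul_comp, hcommH]
    generalize (x ≫ fst H E) ≫ i = a at e1 ⊢
    generalize x ≫ snd H E = e
    generalize h' ≫ i = h at e1 ⊢
    rw [_root_.mul_inv_rev]
    calc e * a * e⁻¹ * a⁻¹ = e * (a * h) * (h⁻¹ * e⁻¹) * a⁻¹ := by group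
      _ = e * (h * a) * (h⁻¹ * e⁻¹) * a⁻¹ := by rw [e1]
      _ = e * h * a * (h⁻¹ * e⁻¹) * a⁻¹ := by group)
  have hd3 : ∀ {X : Over S} (a : X ⟶ H) (e : X ⟶ E), lift a (e ≫ p) ≫ d' = lift a e ≫ d := by
    intro X a e
    rw [← hd'', lift_whiskerLeft_assoc]
  have key := eq_one_of_fibres hH hH d' (fun X a b k => by
    obtain ⟨X', c', e, hc', he⟩ := exists_lift_cover p k
    haveI := hc'
    rw [← cancel_epi c', MonObj.comp_mul, comp_lift_assoc, comp_lift_assoc, comp_lift_assoc, ← he, hd3, hd3, hd3,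
      ← cancel_mono i, MonObj.mul_comp, hd', hd', hd', MonObj.comp_mul, MonObj.mul_comp]
    have e1 : ∀ u v : X' ⟶ H, (u ≫ i) * (v ≫ i) = (v ≫ i) * (u ≫ i) := fun u v => by
      rw [← MonObj.mul_comp, ← MonObj.mul_comp, hcommH]
    obtain ⟨w, hw⟩ : ∃ w : X' ⟶ H, w ≫ i = e * ((c' ≫ b) ≫ i) * e⁻¹ := ⟨lift (c' ≫ b) e ≫ c, by
      rw [Category.assoc, hc]; simp [MonObj.comp_mul, GrpObj.comp_inv]⟩
    obtain ⟨w', hw'⟩ : ∃ w' : X' ⟶ H, w' ≫ i = e * ((c' ≫ a) ≫ i) * e⁻¹ := ⟨lift (c' ≫ a) e ≫ c, by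
      rw [Category.assoc, hc]; simp [MonObj.comp_mul, GrpObj.comp_inv]⟩
    rw [← hw, ← hw']
    have hw'' : e * (((c' ≫ a) ≫ i) * ((c' ≫ b) ≫ i)) * e⁻¹ = (w' ≫ i) * (w ≫ i) := by
      rw [hw, hw']; group
    have hi : ∀ u : X' ⟶ H, (u ≫ i)⁻¹ = u⁻¹ ≫ i := fun u => (GrpObj.inv_comp u i).symm
    rw [hw'']
    simp only [← MonObj.mul_comp, hi]
    congr 1
    rw [_root_.mul_inv_rev, hcommH (c' ≫ b)⁻¹ (c' ≫ a)⁻¹, _root_.mul_assoc w', ← _root_.mul_assoc w,
      hcommH w (c' ≫ a)⁻¹]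
    simp only [_root_.mul_assoc])
    η[K] (fun s => (hs s).imp (fun hconn => ⟨hconn, fun X a => by
      have h1 : toUnit X ≫ η[K] = (1 : X ⟶ E) ≫ p := by rw [MonObj.one_comp, Hom.one_def]
      rw [h1, hd3, ← cancel_mono i, hd', MonObj.one_comp, _root_.one_mul, inv_one, _root_.mul_one, mul_inv_cancel]⟩)
      (fun hfib X hX a k => by
        obtain ⟨X', c', e, hc', he⟩ := exists_lift_cover p k
        haveI := hc'
        rw [← cancel_epi c', MonObj.comp_one, comp_lift_assoc, ← he, hd3, ← cancel_mono i, hd', MonObj.one_comp,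
          hfib X' (hX.comp c') e ((c' ≫ a) ≫ i), mul_inv_cancel_right, mul_inv_cancel]))
  intro X h e
  have h1 := hd' h e
  rw [← hd3, key, MonObj.one_comp] at h1
  exact (mul_inv_eq_iff_eq_mul.1 (mul_inv_eq_one.1 h1.symm)).symm

/-- **An extension of multiplicative type by multiplicative type is commutative.** -/
theorem comm (hker : AlgGrp.IsKernel i p) (hH : SGA3x.IsMultTypeFT H) (hK : SGA3x.IsMultTypeFT K)
    (hs : ∀ s : S, _root_.IsConnected (K.hom.base ⁻¹' {s}) ∨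
      ∀ (X : Over S), OverPt s X → ∀ a b : X ⟶ E, a * b = b * a) :
    ∀ (X : Over S) (a b : X ⟶ E), a * b = b * a := by
  haveI := mono_of_kernel p i hker
  have hcen := central p i hker hH hs
  have hcommK : ∀ {X : Over S} (a b : X ⟶ K), a * b = b * a :=
    fun a b => MTBridge.comm_points_scheme K (MTBridge.locally_of_isMultTypeFT' K hK) a b
  obtain ⟨c, hc⟩ := (MTKernel.exists_lift_iff hker
      (fst E E * snd E E * (fst E E)⁻¹ * (snd E E)⁻¹)).2 (by
    simp only [MonObj.mul_comp, GrpObj.inv_comp]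
    rw [hcommK (fst E E ≫ p), mul_inv_cancel_right, mul_inv_cancel])
  have hc' : ∀ {X : Over S} (a b : X ⟶ E), (lift a b ≫ c) ≫ i = a * b * a⁻¹ * b⁻¹ := by
    intro X a b
    rw [Category.assoc, hc]
    simp [MonObj.comp_mul, GrpObj.comp_inv]
  have hinvl : ∀ {X : Over S} (a b : X ⟶ E) (h : X ⟶ H), lift (a * (h ≫ i)) b ≫ c = lift a b ≫ c := by
    intro X a b h
    rw [← cancel_mono i, hc', hc', _root_.mul_inv_rev]
    have := hcen X h b
    generalize h ≫ i = z at this ⊢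
    calc a * z * b * (z⁻¹ * a⁻¹) * b⁻¹ = a * (z * b) * z⁻¹ * a⁻¹ * b⁻¹ := by group
      _ = a * b * a⁻¹ * b⁻¹ := by rw [this]; group
  have hinvr : ∀ {X : Over S} (a b : X ⟶ E) (h : X ⟶ H), lift a (b * (h ≫ i)) ≫ c = lift a b ≫ c := by
    intro X a b h
    rw [← cancel_mono i, hc', hc', _root_.mul_inv_rev]
    have := hcen X h a⁻¹
    generalize h ≫ i = z at this ⊢
    calc a * (b * z) * a⁻¹ * (z⁻¹ * b⁻¹) = a * b * (z * a⁻¹) * z⁻¹ * b⁻¹ := by group
      _ = a * b * a⁻¹ * b⁻¹ := by rw [this]; group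
  have hsplit : ∀ {X : Over S} (u v : X ⟶ E), u ≫ p = v ≫ p → ∃ h : X ⟶ H, v = u * (h ≫ i) := by
    intro X u v huv
    obtain ⟨h, hh⟩ := (MTKernel.exists_lift_iff hker (u⁻¹ * v)).2 (by
      rw [MonObj.mul_comp, GrpObj.inv_comp, huv, inv_mul_cancel])
    exact ⟨h, by rw [hh, mul_inv_cancel_left]⟩
  obtain ⟨_, _, _⟩ : Flat (p ▷ E).left ∧ Surjective (p ▷ E).left ∧ QuasiCompact (p ▷ E).left := by
    have h := Assoc.isPullback_whiskerRight (Z := E) p
    exact ⟨MorphismProperty.of_isPullback h ‹_›, MorphismProperty.of_isPullback h ‹_›,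
      MorphismProperty.of_isPullback h ‹_›⟩
  obtain ⟨d₁, hd₁⟩ := exists_desc_fppf (p ▷ E) c (fun T x y hxy => by
    have h1 : x ≫ snd E E = y ≫ snd E E := by
      simpa using congrArg (fun z => z ≫ snd K E) hxy
    obtain ⟨h, hh⟩ := hsplit (x ≫ fst E E) (y ≫ fst E E)
      (by simpa using congrArg (fun z => z ≫ fst K E) hxy)
    have hx : x = lift (x ≫ fst E E) (x ≫ snd E E) :=
      CartesianMonoidalCategory.hom_ext _ _ (by simp) (by simp)
    have hy : y = lift ((x ≫ fst E E) * (h ≫ i)) (x ≫ snd E E) := by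
      rw [← hh, h1]; exact CartesianMonoidalCategory.hom_ext _ _ (by simp) (by simp)
    rw [hy, hx, hinvl]
    simp only [lift_fst, lift_snd])
  obtain ⟨_, _, _⟩ := surjective_whisker p K
  obtain ⟨d₂, hd₂⟩ := exists_desc_fppf (K ◁ p) d₁ (fun T x y hxy => by
    obtain ⟨T', c', a, hc'e, ha⟩ := exists_lift_cover p (x ≫ fst K E)
    haveI := hc'e
    have h1 : x ≫ fst K E = y ≫ fst K E := by
      simpa using congrArg (fun z => z ≫ fst K K) hxy
    obtain ⟨h, hh⟩ := hsplit (c' ≫ x ≫ snd K E) (c' ≫ y ≫ snd K E)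
      (by simpa using congrArg (fun z => c' ≫ z ≫ snd K K) hxy)
    rw [← cancel_epi c']
    have hx : c' ≫ x = lift a (c' ≫ x ≫ snd K E) ≫ (p ▷ E) := by
      apply CartesianMonoidalCategory.hom_ext
      · simp [ha]
      · simp
    have hy : c' ≫ y = lift a ((c' ≫ x ≫ snd K E) * (h ≫ i)) ≫ (p ▷ E) := by
      rw [← hh]
      apply CartesianMonoidalCategory.hom_ext
      · simp [ha, h1]
      · simp
    rw [← Category.assoc c' x, ← Category.assoc c' y, hx, hy, Category.assoc, Category.assoc, hd₁, hinvr])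
  have hd₂p : ∀ {X : Over S} (a b : X ⟶ E), lift (a ≫ p) (b ≫ p) ≫ d₂ = lift a b ≫ c := by
    intro X a b
    rw [← lift_whiskerLeft, Category.assoc, hd₂, ← hd₁, lift_whiskerRight_assoc]
  have key := eq_one_of_fibres hK hH d₂ (fun X x y z => by
    obtain ⟨X₁, c₁, a, hc₁, ha⟩ := exists_lift_cover p x
    obtain ⟨X₂, c₂, b, hc₂, hb⟩ := exists_lift_cover p (c₁ ≫ y)
    obtain ⟨X₃, c₃, e, hc₃, he⟩ := exists_lift_cover p (c₂ ≫ c₁ ≫ z)
    haveI := hc₁; haveI := hc₂; haveI := hc₃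
    rw [← cancel_epi c₁, ← cancel_epi c₂, ← cancel_epi c₃]
    have ha' : (c₃ ≫ c₂ ≫ a) ≫ p = c₃ ≫ c₂ ≫ c₁ ≫ x := by rw [Category.assoc, Category.assoc, ha]
    have hb' : (c₃ ≫ b) ≫ p = c₃ ≫ c₂ ≫ c₁ ≫ y := by rw [Category.assoc, hb]
    simp only [MonObj.comp_mul, comp_lift_assoc, ← ha', ← hb', ← he]
    rw [← MonObj.mul_comp, hd₂p, hd₂p, hd₂p, ← cancel_mono i, MonObj.mul_comp, hc', hc', hc']
    have h2 := hcen X₃ (lift (c₃ ≫ b) e ≫ c) (c₃ ≫ c₂ ≫ a)⁻¹
    rw [hc'] at h2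
    generalize c₃ ≫ c₂ ≫ a = u at h2 ⊢
    generalize c₃ ≫ b = v at h2 ⊢
    rw [_root_.mul_inv_rev]
    calc u * v * e * (v⁻¹ * u⁻¹) * e⁻¹ = u * (v * e * v⁻¹ * e⁻¹) * (e * u⁻¹ * e⁻¹) := by group
      _ = u * ((v * e * v⁻¹ * e⁻¹) * u⁻¹) * (u * e * u⁻¹ * e⁻¹) := by group
      _ = u * (u⁻¹ * (v * e * v⁻¹ * e⁻¹)) * (u * e * u⁻¹ * e⁻¹) := by rw [h2]
      _ = (v * e * v⁻¹ * e⁻¹) * (u * e * u⁻¹ * e⁻¹) := by group
      _ = (u * e * u⁻¹ * e⁻¹) * (v * e * v⁻¹ * e⁻¹) := by
        have h3 := hcen X₃ (lift v e ≫ c) (u * e * u⁻¹ * e⁻¹)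
        rw [hc'] at h3
        exact h3)
    η[K] (fun s => (hs s).imp (fun hconn => ⟨hconn, fun X x => by
      obtain ⟨X', c', a, hc'e, ha⟩ := exists_lift_cover p x
      haveI := hc'e
      rw [← cancel_epi c', MonObj.comp_one, comp_lift_assoc, ← ha, ← Category.assoc c' (toUnit X), comp_toUnit,
        show toUnit X' ≫ η[K] = (1 : X' ⟶ E) ≫ p by rw [MonObj.one_comp, Hom.one_def], hd₂p, ← cancel_mono i,
        hc', MonObj.one_comp]
      group⟩)
      (fun hfib X hX x z => by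
        obtain ⟨X₁, c₁, a, hc₁, ha⟩ := exists_lift_cover p x
        obtain ⟨X₂, c₂, b, hc₂, hb⟩ := exists_lift_cover p (c₁ ≫ z)
        haveI := hc₁; haveI := hc₂
        rw [← cancel_epi c₁, ← cancel_epi c₂, MonObj.comp_one, MonObj.comp_one, comp_lift_assoc, comp_lift_assoc,
          ← hb, ← ha, ← Category.assoc c₂ a, hd₂p, ← cancel_mono i, hc', MonObj.one_comp,
          hfib X₂ ((hX.comp c₁).comp c₂) (c₂ ≫ a) b, mul_inv_cancel_right, mul_inv_cancel]))
  intro X a b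
  have h1 := hc' a b
  rw [← hd₂p, key, MonObj.one_comp] at h1
  exact mul_inv_eq_iff_eq_mul.1 (mul_inv_eq_one.1 h1.symm)

end Groth.Agent.MTExt
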