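import Groth.Agent.MTExt.Basic
import Groth.Agent.MTExt.PowFinite
import Groth.Agent.MTExt.Rigid
import Groth.Agent.MTSub.Basic
import Groth.Agent.Chev.BcKernel
import Groth.Agent.MultT.AlgFP
import Groth.Agent.S5264
import Groth.Agent.FpqcDescent.Affine
import Groth.Agent.UnitUnram.Basic
import Groth.Agent.MTBridge.FlatMT

/-!
# Extensions of groups of multiplicative type by groups of multiplicative type
-/

set_option autoImplicit false
set_option linter.style.haveILetI false
set_option backward.isDefEq.respectTransparency false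
set_option maxHeartbeats 1000000
set_option synthInstance.maxHeartbeats 400000

universe u

open CategoryTheory CategoryTheory.Limits MonoidalCategory CartesianMonoidalCategory MonObj AlgebraicGeometry WithConv
open scoped CategoryTheory.Obj TensorProduct
open Groth.Agent.MTBridge (specGrp)

noncomputable section

namespace Groth.Agent.MTExt

/-- **Power maps of commutative extensions of groups of multiplicative type are finite.** -/
theorem isFinite_pow_ext {S : Scheme.{u}} {E H K : Over S} [GrpObj E] [GrpObj H] [GrpObj K]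
    (hE : ∀ (X : Over S) (a b : X ⟶ E), a * b = b * a) (p : E ⟶ K) [IsMonHom p] [Surjective p.left] [Flat p.left]
    [QuasiCompact p.left] (i : H ⟶ E) [IsMonHom i] (hker : AlgGrp.IsKernel i p) (hH : SGA3x.IsMultTypeFT H)
    (hK : SGA3x.IsMultTypeFT K) {n : ℕ} (hn : 0 < n) : IsFinite ((𝟙 E) ^ n).left := by
  haveI := mono_of_kernel p i hker
  have hnH := isFinite_pow H hH hn
  have hnK := isFinite_pow K hK hn
  let P := pullback p ((𝟙 K) ^ n)
  let π : P ⟶ E := pullback.fst p ((𝟙 K) ^ n)
  let δ : E ⟶ P := pullback.lift ((𝟙 E) ^ n) p (by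
    rw [pow_comp_hom, comp_pow', Category.id_comp, Category.comp_id])
  let w : E ⊗ H ⟶ P := pullback.lift ((fst E H) ^ n * (snd E H ≫ i)) (fst E H ≫ p) (by
    rw [MonObj.mul_comp, pow_comp_hom, Category.assoc, Assoc.kernel_comp_eq_one i p hker, comp_pow',
      Category.comp_id, _root_.mul_one])
  have hw1 : ∀ {T : Over S} (x : T ⟶ E) (h : T ⟶ H), lift x h ≫ w ≫ π = x ^ n * (h ≫ i) := by
    intro T x h
    simp only [w, π, pullback.lift_fst, MonObj.comp_mul, comp_pow', lift_fst, lift_snd_assoc]
  have hw2 : ∀ {T : Over S} (x : T ⟶ E) (h : T ⟶ H),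
      lift x h ≫ w ≫ pullback.snd p ((𝟙 K) ^ n) = x ≫ p := by
    intro T x h
    simp only [w, pullback.lift_snd, lift_fst_assoc]
  have hδ1 : ∀ {T : Over S} (x : T ⟶ E), x ≫ δ ≫ π = x ^ n := by
    intro T x
    simp only [δ, π, pullback.lift_fst, comp_pow', Category.comp_id]
  have hδ2 : ∀ {T : Over S} (x : T ⟶ E), x ≫ δ ≫ pullback.snd p ((𝟙 K) ^ n) = x ≫ p := by
    intro T x
    simp only [δ, pullback.lift_snd]
  have split : ∀ {T : Over S} (z : T ⟶ E ⊗ H), lift (z ≫ fst E H) (z ≫ snd E H) = z := fun z =>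
    CartesianMonoidalCategory.hom_ext _ _ (by simp) (by simp)
  -- the cover
  have sq1 : IsPullback (fst E H) w p (pullback.snd p ((𝟙 K) ^ n)) := by
    refine IsPullback.mk' ?_ (fun T φ φ' e₁ e₂ => ?_) fun T x y hxy => ?_
    · simp only [w, pullback.lift_snd]
    · refine CartesianMonoidalCategory.hom_ext _ _ e₁ ((cancel_mono i).1 ?_)
      have h1 := congrArg (fun m => m ≫ π) e₂
      simp only [Category.assoc] at h1
      rw [← split φ, ← split φ', hw1, hw1, e₁] at h1
      exact mul_left_cancel h1
    · obtain ⟨h, hh⟩ := (MTKernel.exists_lift_iff hker ((x ^ n)⁻¹ * (y ≫ π))).2 (by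
        rw [MonObj.mul_comp, GrpObj.inv_comp, pow_comp_hom, Category.assoc, pullback.condition, comp_pow',
          comp_pow', Category.comp_id, hxy, inv_mul_cancel])
      refine ⟨lift x h, lift_fst _ _, pullback.hom_ext ?_ ?_⟩
      · rw [Category.assoc, hw1, hh, mul_inv_cancel_left]
      · rw [Category.assoc, hw2, hxy]
  have sq2 : IsPullback (fst E H * (snd E H ≫ i)) (E ◁ ((𝟙 H) ^ n)) δ w := by
    have hpw : ∀ {T : Over S} (x : T ⟶ E) (h : T ⟶ H), (x * (h ≫ i)) ^ n = x ^ n * ((h ^ n) ≫ i) := by
      intro T x h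
      rw [pow_comp_hom]
      exact Commute.mul_pow (hE T x (h ≫ i)) n
    refine IsPullback.mk' ?_ (fun T φ φ' e₁ e₂ => ?_) fun T a z haz => ?_
    · refine pullback.hom_ext ?_ ?_
      · show _ ≫ π = _ ≫ π
        rw [Category.assoc, hδ1, hpw, Category.assoc, show E ◁ ((𝟙 H) ^ n) = lift (fst E H) (snd E H ^ n) from
          CartesianMonoidalCategory.hom_ext _ _ (by simp) (by simp [comp_pow']), hw1]
      · rw [Category.assoc, hδ2, Category.assoc, show E ◁ ((𝟙 H) ^ n) = lift (fst E H) (snd E H ^ n) from
          CartesianMonoidalCategory.hom_ext _ _ (by simp) (by simp [comp_pow']), hw2, MonObj.mul_comp, Category.assoc,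
          Assoc.kernel_comp_eq_one i p hker, _root_.mul_one]
    · have h0 := congrArg (fun m => m ≫ fst E H) e₂
      simp only [Category.assoc, whiskerLeft_fst] at h0
      refine CartesianMonoidalCategory.hom_ext _ _ h0 ((cancel_mono i).1 ?_)
      simp only [MonObj.comp_mul] at e₁
      rw [h0, ← Category.assoc φ, ← Category.assoc φ'] at e₁
      exact mul_left_cancel e₁
    · have h1 := congrArg (fun m => m ≫ π) haz
      have h2 := congrArg (fun m => m ≫ pullback.snd p ((𝟙 K) ^ n)) haz
      simp only [Category.assoc] at h1 h2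
      rw [← split z, hw1, hδ1] at h1
      rw [← split z, hw2, hδ2] at h2
      obtain ⟨h0, hh0⟩ := (MTKernel.exists_lift_iff hker ((z ≫ fst E H)⁻¹ * a)).2 (by
        rw [MonObj.mul_comp, GrpObj.inv_comp, h2, inv_mul_cancel])
      have ha : a = (z ≫ fst E H) * (h0 ≫ i) := by rw [hh0, mul_inv_cancel_left]
      refine ⟨lift (z ≫ fst E H) h0, ?_, ?_⟩
      · rw [MonObj.comp_mul, lift_fst, lift_snd_assoc, ← ha]
      · rw [ha, hpw] at h1
        have h3 : h0 ^ n = z ≫ snd E H := (cancel_mono i).1 (mul_left_cancel h1)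
        apply CartesianMonoidalCategory.hom_ext
        · simp
        · rw [Category.assoc, whiskerLeft_snd, lift_snd_assoc, comp_pow', Category.comp_id, h3]
  have q1 := sq1.map (Over.forget S)
  have q2 := sq2.map (Over.forget S)
  have hfin : IsFinite (E ◁ ((𝟙 H) ^ n)).left :=
    MorphismProperty.of_isPullback (Assoc.isPullback_whiskerLeft (Z := E) ((𝟙 H) ^ n)) hnH
  have hwQ : (@Surjective ⊓ @Flat ⊓ @QuasiCompact : MorphismProperty Scheme.{u}) w.left :=
    ⟨⟨MorphismProperty.of_isPullback q1 ‹Surjective p.left›, MorphismProperty.of_isPullback q1 ‹Flat p.left›⟩,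
      MorphismProperty.of_isPullback q1 ‹QuasiCompact p.left›⟩
  haveI hδ : IsFinite δ.left :=
    MorphismProperty.of_isPullback_of_descendsAlong (P := @IsFinite) (Q := @Surjective ⊓ @Flat ⊓ @QuasiCompact)
      q2.flip hwQ hfin
  haveI : IsFinite π.left :=
    MorphismProperty.of_isPullback ((IsPullback.of_hasPullback p ((𝟙 K) ^ n)).flip.map (Over.forget S)) hnK
  have he : (𝟙 E) ^ n = δ ≫ π := by
    rw [← Category.id_comp (δ ≫ π), hδ1]
  rw [he, Over.comp_left]
  infer_instance

/-- An extension of groups of multiplicative type over an affine base is affine, flat, of finite presentation. -/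
theorem affine_flat_fp {R : Type u} [CommRing R] {E H K : Over (Spec (CommRingCat.of R))} [GrpObj E] [GrpObj H]
    [GrpObj K] (p : E ⟶ K) [IsMonHom p] [Surjective p.left] [Flat p.left] [QuasiCompact p.left] (i : H ⟶ E)
    [IsMonHom i] (hker : AlgGrp.IsKernel i p) (hH : SGA3x.IsMultTypeFT H) (hK : SGA3x.IsMultTypeFT K) :
    IsAffine E.left ∧ Flat E.hom ∧ LocallyOfFinitePresentation E.hom := by
  have key : ∀ (G : Over (Spec (CommRingCat.of R))) [GrpObj G], SGA3x.IsMultTypeFT G →
      IsAffineHom G.hom ∧ Flat G.hom ∧ LocallyOfFinitePresentation G.hom := by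
    intro G _ hG
    obtain ⟨A, _, _, hA, hft, ⟨e⟩⟩ := MTBridge.exists_hopf G hG
    haveI := hft
    haveI : IsIso e.hom.hom.hom.left := inferInstanceAs (IsIso ((Over.forget _).map ((Grp.forget _).map e.hom)))
    have hfp : LocallyOfFinitePresentation (Spec.map (CommRingCat.ofHom (algebraMap R A))) :=
      (HasRingHomProperty.Spec_iff (P := @LocallyOfFinitePresentation)).2
        (RingHom.finitePresentation_algebraMap.2 (MultT.finitePresentation_algebra hA))
    refine ⟨MTBridge.isAffineHom G hG, MTBridge.flat_of_isMultTypeFT G hG, ?_⟩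
    rw [← Over.w e.hom.hom.hom]
    haveI := hfp
    exact MorphismProperty.comp_mem (W := @LocallyOfFinitePresentation) _ _ inferInstance hfp
  obtain ⟨hHa, hHf, hHp⟩ := key H hH
  obtain ⟨hKa, hKf, hKp⟩ := key K hK
  have sq := (Assoc.kernel_isPullback i p hker).map (Over.forget (Spec (CommRingCat.of R)))
  have hQ : (@Surjective ⊓ @Flat ⊓ @QuasiCompact : MorphismProperty Scheme.{u}) p.left :=
    ⟨⟨‹_›, ‹_›⟩, ‹_›⟩
  haveI : IsAffineHom p.left :=
    MorphismProperty.of_isPullback_of_descendsAlong (P := @IsAffineHom) (Q := @Surjective ⊓ @Flat ⊓ @QuasiCompact)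
      sq hQ (MorphismProperty.pullback_fst E.hom H.hom hHa)
  haveI : LocallyOfFinitePresentation p.left :=
    MorphismProperty.of_isPullback_of_descendsAlong (P := @LocallyOfFinitePresentation)
      (Q := @Surjective ⊓ @Flat ⊓ @QuasiCompact) sq hQ (MorphismProperty.pullback_fst E.hom H.hom hHp)
  haveI : IsAffine K.left := isAffine_of_isAffineHom K.hom
  refine ⟨isAffine_of_isAffineHom p.left, ?_, ?_⟩
  · rw [← Over.w p]
    exact MorphismProperty.comp_mem (W := @Flat) _ _ ‹_› hKf
  · rw [← Over.w p]
    exact MorphismProperty.comp_mem (W := @LocallyOfFinitePresentation) _ _ ‹_› hKp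

/-- A finite power map has finite torsion. -/
theorem finite_quot_torsion {R C : Type u} [CommRing R] [CommRing C] [HopfAlgebra R C] (n : ℕ)
    (h : (SGA3b.powConv R C n).toRingHom.Finite) : Module.Finite R (C ⧸ SGA3b.torsionIdeal R C n) := by
  classical
  let p := SGA3b.powConv R C n
  let J := SGA3b.torsionIdeal R C n
  letI : Algebra C C := p.toRingHom.toAlgebra
  obtain ⟨t, ht⟩ := @Module.Finite.fg_top C C _ _ p.toRingHom.toAlgebra.toModule h
  refine ⟨⟨t.image (Ideal.Quotient.mk J), ?_⟩⟩
  rw [eq_top_iff]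
  intro z _
  obtain ⟨c, rfl⟩ := Ideal.Quotient.mk_surjective z
  have hc : c ∈ @Submodule.span C C _ _ p.toRingHom.toAlgebra.toModule (t : Set C) := by rw [ht]; trivial
  refine @Submodule.span_induction C C _ _ p.toRingHom.toAlgebra.toModule _
    (fun x _ => Ideal.Quotient.mk J x ∈ Submodule.span R ((t.image (Ideal.Quotient.mk J) : Finset (C ⧸ J)) : Set (C ⧸ J)))
    ?_ ?_ ?_ ?_ c hc
  · intro x hx
    exact Submodule.subset_span (Finset.mem_coe.2 (Finset.mem_image_of_mem _ hx))
  · rw [map_zero]; exact zero_mem _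
  · intro x y _ _ hx hy
    rw [map_add]; exact add_mem hx hy
  · intro r x _ hx
    have hr : Ideal.Quotient.mk J (p r) = algebraMap R (C ⧸ J) (Coalgebra.counit r) := by
      rw [← Ideal.Quotient.mk_algebraMap, Ideal.Quotient.eq]
      have : p r - algebraMap R C (Coalgebra.counit r) = p (r - algebraMap R C (Coalgebra.counit r)) := by
        rw [map_sub, AlgHom.commutes]
      rw [this]
      exact Ideal.mem_map_of_mem _ (by simp [RingHom.mem_ker])
    show Ideal.Quotient.mk J (p r * x) ∈ _
    rw [map_mul, hr, ← Algebra.smul_def]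
    exact Submodule.smul_mem _ _ hx

/-- The commutative case over an affine base. -/
theorem isMultTypeFT_affine_of_comm {R : Type u} [CommRing R] {E H K : Over (Spec (CommRingCat.of R))}
    [GrpObj E] [GrpObj H] [GrpObj K] (hE : ∀ (X : Over (Spec (CommRingCat.of R))) (a b : X ⟶ E), a * b = b * a)
    (p : E ⟶ K) [IsMonHom p] [Surjective p.left] [Flat p.left] [QuasiCompact p.left] (i : H ⟶ E) [IsMonHom i]
    (hker : AlgGrp.IsKernel i p) (hH : SGA3x.IsMultTypeFT H) (hK : SGA3x.IsMultTypeFT K) :
    SGA3x.IsMultTypeFT E := by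
  haveI := mono_of_kernel p i hker
  obtain ⟨hEa, hEf, hEp⟩ := affine_flat_fp p i hker hH hK
  haveI := hEa; haveI := hEf; haveI := hEp
  obtain ⟨C, hC, e, he⟩ := FinHopf.exists_hopf (R := CommRingCat.of R) E
  haveI := he
  haveI : IsIso e.hom.left := ((Over.forget _).mapIso e).isIso_hom
  have hw : Spec.map (CommRingCat.ofHom (algebraMap R C)) = e.hom.left ≫ E.hom := (Over.w e.hom).symm
  haveI : Module.Flat R C := by
    have h : Flat (Spec.map (CommRingCat.ofHom (algebraMap R C))) := by rw [hw]; infer_instance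
    exact RingHom.flat_algebraMap_iff.1 (Flat.SpecMap_iff.1 h)
  have hfp : Algebra.FinitePresentation R C := by
    have h : LocallyOfFinitePresentation (Spec.map (CommRingCat.ofHom (algebraMap R C))) := by rw [hw]; infer_instance
    exact RingHom.finitePresentation_algebraMap.1 ((HasRingHomProperty.Spec_iff (P := @LocallyOfFinitePresentation)).1 h)
  haveI : Algebra.FiniteType R C := inferInstance
  haveI : Coalgebra.IsCocomm R C := by
    have hsp : ∀ (X : Over (Spec (CommRingCat.of R))) (x y : X ⟶ (specGrp R C).X), x * y = y * x := fun X x y => by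
      refine (cancel_mono e.hom).1 ?_
      rw [MonObj.mul_comp, MonObj.mul_comp]
      exact hE _ _ _
    refine ⟨LinearMap.ext fun a => ?_⟩
    have h0 : (toConv Algebra.TensorProduct.includeLeft * toConv Algebra.TensorProduct.includeRight :
        WithConv (C →ₐ[R] C ⊗[R] C)) =
        toConv Algebra.TensorProduct.includeRight * toConv Algebra.TensorProduct.includeLeft := by
      apply (Spec.mapMulEquiv (R := R) (S := C) (T := C ⊗[R] C)).injective
      rw [map_mul, map_mul]
      exact hsp _ _ _
    have e' := congrArg (fun φ : WithConv (C →ₐ[R] C ⊗[R] C) => φ.ofConv a) h0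
    simp only [AlgHom.convMul_apply] at e'
    show TensorProduct.comm R C C (Coalgebra.comul (R := R) a) = Coalgebra.comul (R := R) a
    revert e'
    generalize Coalgebra.comul (R := R) a = z
    intro e'
    have e1 : ∀ z : C ⊗[R] C, Algebra.TensorProduct.lift (S := R) (Algebra.TensorProduct.includeLeft : C →ₐ[R] C ⊗[R] C)
        Algebra.TensorProduct.includeRight (fun _ _ => Commute.all _ _) z = z := fun z => by
      induction z using TensorProduct.induction_on with
      | zero => simp
      | tmul x y => simp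
      | add x y hx hy => rw [map_add, hx, hy]
    have e2 : ∀ z : C ⊗[R] C, Algebra.TensorProduct.lift (S := R) (Algebra.TensorProduct.includeRight : C →ₐ[R] C ⊗[R] C)
        Algebra.TensorProduct.includeLeft (fun _ _ => Commute.all _ _) z = TensorProduct.comm R C C z := fun z => by
      induction z using TensorProduct.induction_on with
      | zero => simp
      | tmul x y => simp
      | add x y hx hy => rw [map_add, map_add, hx, hy]
    rw [e1, e2] at e'
    exact e'.symm
  let eG : Grp.mk E ≅ specGrp R C := (Grp.mkIso' e).symm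
  refine isMultTypeFT_of_iso e (MTBridge.isMultTypeFT_specGrp (S5264.result R C hfp (fun 𝔭 _ => ?_) (fun n hn => ?_)))
  · -- fibres
    let κ := 𝔭.ResidueField
    let j : Spec (CommRingCat.of κ) ⟶ Spec (CommRingCat.of R) := Spec.map (CommRingCat.ofHom (algebraMap R κ))
    let F := Over.pullback j
    haveI : IsMonHom (F.map p) := inferInstance
    haveI : IsMonHom (F.map i) := inferInstance
    have hsq := isPullback_bc j p
    haveI : Surjective (F.map p).left := MorphismProperty.of_isPullback hsq ‹_›
    haveI : Flat (F.map p).left := MorphismProperty.of_isPullback hsq ‹_›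
    haveI : QuasiCompact (F.map p).left := MorphismProperty.of_isPullback hsq ‹_›
    haveI : IsAffine (Red.bc j E).left := inferInstanceAs (IsAffine (pullback E.hom j))
    haveI : LocallyOfFiniteType (Red.bc j E).hom := MorphismProperty.pullback_snd _ _ inferInstance
    have hm : SGA3x.IsMultTypeFT (Red.bc j E) := isMultTypeFT_of_comm (fun X x y => by
        obtain ⟨x, rfl⟩ := MTBridge.exists_toBC' j x
        obtain ⟨y, rfl⟩ := MTBridge.exists_toBC' j y
        rw [← MTBridge.toBC_mul, ← MTBridge.toBC_mul, hE])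
      (F.map i) (F.map p) (Chev.isKernel_bc j i p hker) (MTBridge.isMultTypeFT_bc H j hH)
      (MTBridge.isMultTypeFT_bc K j hK)
    obtain ⟨e₂⟩ := MTBridge.nonempty_bc_specGrp R κ C
    let e₃ : Grp.mk (Red.bc j E) ≅ specGrp κ (κ ⊗[R] C) := (Over.pullback j).mapGrp.mapIso eG ≪≫ e₂
    let f₃ : Red.bc j E ≅ (specGrp κ (κ ⊗[R] C)).X := (Grp.forget _).mapIso e₃
    haveI : IsMonHom f₃.hom := e₃.hom.hom.isMonHom_hom
    exact (MTBridge.isMultType_of_specGrp (isMultTypeFT_of_iso f₃ hm)).1
  · have h1 := isFinite_pow_of_iso eG.symm (isFinite_pow_ext hE p i hker hH hK hn)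
    have hid : (𝟙 (specGrp R C).X) = Spec.mapMulEquiv (R := R) (S := C) (T := C) (toConv (AlgHom.id R C)) := by
      apply Over.OverMorphism.ext
      show 𝟙 _ = Spec.map (CommRingCat.ofHom (AlgHom.id R C).toRingHom)
      exact (Spec.map_id _).symm
    have h2 : ((𝟙 (specGrp R C).X) ^ n).left = Spec.map (CommRingCat.ofHom (SGA3b.powConv R C n).toRingHom) := by
      rw [hid, ← map_pow]
      rfl
    rw [h2, IsFinite.SpecMap_iff] at h1
    exact finite_quot_torsion n h1

/-- **Extensions of multiplicative type by multiplicative type.** -/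
theorem isMultTypeFT_of_ext {S : Scheme.{u}} {E H K : Over S} [GrpObj E] [GrpObj H] [GrpObj K]
    (p : E ⟶ K) [IsMonHom p] [Surjective p.left] [Flat p.left] [QuasiCompact p.left] (i : H ⟶ E) [IsMonHom i]
    (hker : AlgGrp.IsKernel i p) (hH : SGA3x.IsMultTypeFT H) (hK : SGA3x.IsMultTypeFT K)
    (hs : ∀ s : S, _root_.IsConnected (K.hom.base ⁻¹' {s}) ∨
      ∀ (X : Over S), OverPt s X → ∀ a b : X ⟶ E, a * b = b * a) :
    SGA3x.IsMultTypeFT E := by
  have hE := comm p i hker hH hK hs
  haveI := mono_of_kernel p i hker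
  refine MTSub.isMultTypeFT_of_cover E fun V => ?_
  let j := V.2.fromSpec
  let F := Over.pullback j
  haveI : IsMonHom (F.map p) := inferInstance
  haveI : IsMonHom (F.map i) := inferInstance
  have hsq := isPullback_bc j p
  haveI : Surjective (F.map p).left := MorphismProperty.of_isPullback hsq ‹_›
  haveI : Flat (F.map p).left := MorphismProperty.of_isPullback hsq ‹_›
  haveI : QuasiCompact (F.map p).left := MorphismProperty.of_isPullback hsq ‹_›
  exact isMultTypeFT_affine_of_comm (fun X x y => by
      obtain ⟨x, rfl⟩ := MTBridge.exists_toBC' j x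
      obtain ⟨y, rfl⟩ := MTBridge.exists_toBC' j y
      rw [← MTBridge.toBC_mul, ← MTBridge.toBC_mul, hE])
    (F.map p) (F.map i) (Chev.isKernel_bc j i p hker) (MTBridge.isMultTypeFT_bc H j hH)
    (MTBridge.isMultTypeFT_bc K j hK)

end Groth.Agent.MTExt
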