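import Groth.Agent.MTExt.Main

/-!
# Gluing the local extensions and the homomorphism property
-/

set_option autoImplicit false
set_option linter.style.haveILetI false
set_option backward.isDefEq.respectTransparency false
set_option backward.isDefEq.respectTransparency.types false
set_option synthInstance.maxHeartbeats 400000
set_option maxHeartbeats 1000000

universe u

open CategoryTheory CategoryTheory.Limits MonoidalCategory CartesianMonoidalCategory AlgebraicGeometry IsLocalRing
open MonObj TopologicalSpace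
open scoped CategoryTheory.Obj

noncomputable section

namespace Groth.Agent.MTExt

open Groth.Agent.SectionExt

variable {S : Scheme.{u}} [IsIntegral S] [IsLocallyNoetherian S] {H T : Over S} [Smooth H.hom]

/-- The generic point of the component through a point lies in the generic fibre. -/
theorem exists_genMap_lift (x : H.left) [IsDomain (H.left.presheaf.stalk x)] :
    ∃ lx, lx ≫ pullback.fst H.hom (jgen S) = genMap H.left x := by
  obtain ⟨k', hk'⟩ := exists_lift_jgen (genMap H.left x ≫ H.hom) (by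
    obtain ⟨y', hy', hy''⟩ := Flat.generalizingMap H.hom (genericPoint_specializes (H.hom x))
    obtain ⟨P, hP⟩ := Scheme.range_fromSpecStalk.ge hy'
    have hsp : genMap H.left x (closedPoint _) ⤳ y' := by
      rw [← hP, genMap_pt x ⟨⊥, Ideal.isPrime_bot⟩ rfl]
      exact Specializes.map ((PrimeSpectrum.le_iff_specializes _ P).1 bot_le) (H.left.fromSpecStalk x).continuous
    have h := hsp.map H.hom.continuous
    rw [hy''] at h
    rw [Scheme.Hom.comp_apply]
    exact (h.antisymm (genericPoint_specializes _)).eq)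
  exact ⟨pullback.lift _ k' hk'.symm, pullback.lift_fst _ _ _⟩

/-- Hartogs: extension at every point from the points of codimension at most one, affine target. -/
theorem exists_stalk_lift (hnorm : ∀ s : S, IsIntegrallyClosed (S.presheaf.stalk s)) [IsAffineHom T.hom]
    (w : pullback H.hom (jgen S) ⟶ T.left) (hw : w ≫ T.hom = pullback.fst H.hom (jgen S) ≫ H.hom)
    (h1 : ∀ x : H.left, ringKrullDim (H.left.presheaf.stalk x) ≤ 1 →
      ∃ t : Spec (H.left.presheaf.stalk x) ⟶ T.left, Compat w (H.left.fromSpecStalk x) t)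
    (y : H.left) [IsDomain (H.left.presheaf.stalk y)]
    (ly : Spec (CommRingCat.of (FractionRing (H.left.presheaf.stalk y))) ⟶ pullback H.hom (jgen S))
    (hly : ly ≫ pullback.fst H.hom (jgen S) = genMap H.left y) :
    ∃ t : Spec (H.left.presheaf.stalk y) ⟶ T.left, t ≫ T.hom = H.left.fromSpecStalk y ≫ H.hom ∧
      Spec.map (CommRingCat.ofHom (algebraMap (H.left.presheaf.stalk y)
        (FractionRing (H.left.presheaf.stalk y)))) ≫ t = ly ≫ w := by
  haveI : IsLocallyNoetherian H.left := LocallyOfFiniteType.isLocallyNoetherian H.hom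
  haveI : IsIntegrallyClosed (H.left.presheaf.stalk y) := (normal_stalk hnorm H.hom y).2
  obtain ⟨V, hV, hsV, -⟩ := exists_isAffineOpen_mem_and_subset (X := S) (x := H.hom y) (U := ⊤) trivial
  let W := T.hom ⁻¹ᵁ V
  have hW : IsAffineOpen W := hV.preimage T.hom
  let O := H.left.presheaf.stalk y
  let F := FractionRing O
  have hV' : ∀ {R : CommRingCat.{u}} (f : Spec R ⟶ T.left) (g : Spec R ⟶ Spec O),
      f ≫ T.hom = g ≫ H.left.fromSpecStalk y ≫ H.hom → Set.range f ⊆ Set.range hW.fromSpec := by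
    rintro R f g hfg _ ⟨p, rfl⟩
    rw [hW.range_fromSpec]
    show T.hom (f p) ∈ V
    rw [← Scheme.Hom.comp_apply, hfg, Scheme.Hom.comp_apply, Scheme.Hom.comp_apply]
    have h2 : H.left.fromSpecStalk y (g p) ⤳ y := Scheme.range_fromSpecStalk.le ⟨_, rfl⟩
    exact (h2.map H.hom.continuous).mem_open V.2 hsV
  let gen : Spec (CommRingCat.of F) ⟶ Spec O := Spec.map (CommRingCat.ofHom (algebraMap O F))
  have hβ0 : (ly ≫ w) ≫ T.hom = gen ≫ H.left.fromSpecStalk y ≫ H.hom := by
    rw [Category.assoc, hw, reassoc_of% hly]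
  obtain ⟨β, hβ⟩ := Spec.map_surjective (IsOpenImmersion.lift hW.fromSpec (ly ≫ w) (hV' _ gen hβ0))
  have hβw : Spec.map β ≫ hW.fromSpec = ly ≫ w := by rw [hβ, IsOpenImmersion.lift_fac]
  have hr : β.hom.range ≤ (algebraMap O F).range := by
    rintro _ ⟨b, rfl⟩
    refine S2111.result _ fun Q hQ hQ1 => ?_
    let D := Localization.AtPrime Q
    let gQ : Spec (CommRingCat.of D) ⟶ Spec O := Spec.map (CommRingCat.ofHom (algebraMap O D))
    obtain ⟨z, hz⟩ : ∃ z, H.left.fromSpecStalk y ⟨Q, hQ⟩ = z := ⟨_, rfl⟩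
    have hzd : ringKrullDim (H.left.presheaf.stalk z) ≤ 1 :=
      (WeilExt.dim_stalk_le_height y ⟨Q, hQ⟩ hz).trans (by rw [hQ1]; rfl)
    obtain ⟨t, ht, htc⟩ := h1 z hzd
    obtain ⟨ψ, hψ⟩ := SectionExt.exists_fac_fromSpecStalk (gQ ≫ H.left.fromSpecStalk y) (x := z) (by
      rw [Scheme.Hom.comp_apply, ← hz]
      congr 1
      exact PrimeSpectrum.ext (IsLocalization.AtPrime.comap_maximalIdeal D Q))
    let t' : Spec (CommRingCat.of D) ⟶ T.left := Spec.map ψ ≫ t
    have ht' : t' ≫ T.hom = gQ ≫ H.left.fromSpecStalk y ≫ H.hom := by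
      rw [Category.assoc, ht, reassoc_of% hψ]
    obtain ⟨gam, hgam⟩ := Spec.map_surjective (IsOpenImmersion.lift hW.fromSpec t' (hV' _ gQ ht'))
    have hgen : Spec.map (CommRingCat.ofHom (algebraMap D F)) ≫ gQ = gen := by
      rw [← Spec.map_comp]
      exact congrArg Spec.map (CommRingCat.hom_ext (IsScalarTower.algebraMap_eq O D F).symm)
    have heq : gam ≫ CommRingCat.ofHom (algebraMap D F) = β := by
      apply Spec.map_injective
      rw [← cancel_mono hW.fromSpec, Spec.map_comp, Category.assoc, hgam, IsOpenImmersion.lift_fac, hβw]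
      show _ ≫ Spec.map ψ ≫ t = _
      rw [← Category.assoc]
      refine htc F _ ly ?_
      rw [hly, Category.assoc, hψ, reassoc_of% hgen]
    exact ⟨gam.hom b, by rw [← heq]; rfl⟩
  let eR := RingEquiv.ofBijective (algebraMap O F).rangeRestrict
    ⟨fun a c h => IsFractionRing.injective O F (congrArg Subtype.val h), (algebraMap O F).rangeRestrict_surjective⟩
  let β₀ : Γ(T.left, W) →+* O := eR.symm.toRingHom.comp
    (β.hom.codRestrict (algebraMap O F).range fun b => hr ⟨b, rfl⟩)
  have hβ₀ : CommRingCat.ofHom β₀ ≫ CommRingCat.ofHom (algebraMap O F) = β :=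
    CommRingCat.hom_ext (RingHom.ext fun b => congrArg Subtype.val (eR.apply_symm_apply _))
  have hgt : gen ≫ Spec.map (CommRingCat.ofHom β₀) ≫ hW.fromSpec = ly ≫ w := by
    rw [← Category.assoc, ← Spec.map_comp, hβ₀, hβw]
  refine ⟨Spec.map (CommRingCat.ofHom β₀) ≫ hW.fromSpec, ?_, hgt⟩
  -- compatibility over the base
  obtain ⟨ψy, hψy⟩ : ∃ ψy, Spec.map ψy = IsOpenImmersion.lift hV.fromSpec
      (H.left.fromSpecStalk y ≫ H.hom) (by
        rw [hV.range_fromSpec]
        rintro _ ⟨p, rfl⟩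
        rw [Scheme.Hom.comp_apply]
        have h2 : H.left.fromSpecStalk y p ⤳ y := Scheme.range_fromSpecStalk.le ⟨_, rfl⟩
        exact (h2.map H.hom.continuous).mem_open V.2 hsV) := ⟨_, Spec.map_preimage _⟩
  have hψy' : Spec.map ψy ≫ hV.fromSpec = H.left.fromSpecStalk y ≫ H.hom := by
    rw [hψy, IsOpenImmersion.lift_fac]
  let a := T.hom.appLE V W le_rfl
  have ha : Spec.map a ≫ hV.fromSpec = hW.fromSpec ≫ T.hom := hV.SpecMap_appLE_fromSpec T.hom hW le_rfl
  have key : a ≫ CommRingCat.ofHom β₀ = ψy := by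
    refine CommRingCat.hom_ext (RingHom.ext fun v => IsFractionRing.injective O F ?_)
    have h3 : (a ≫ CommRingCat.ofHom β₀) ≫ CommRingCat.ofHom (algebraMap O F) =
        ψy ≫ CommRingCat.ofHom (algebraMap O F) := by
      apply Spec.map_injective
      rw [← cancel_mono hV.fromSpec, Category.assoc, hβ₀, Spec.map_comp, Category.assoc, ha, reassoc_of% hβw,
        Spec.map_comp, Category.assoc, hψy', hw, reassoc_of% hly]
    exact congr($h3 v)
  rw [Category.assoc, ← ha, ← Category.assoc, ← Spec.map_comp, key, hψy']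

variable [IsLocallyNoetherian H.left]

/-- Spreading out a germ to an integral neighbourhood. -/
theorem exists_nhd_ext [IsSeparated T.hom] [LocallyOfFiniteType T.hom] (y : H.left)
    [IsDomain (H.left.presheaf.stalk y)] [IsReduced H.left]
    (w : pullback H.hom (jgen S) ⟶ T.left) (hw : w ≫ T.hom = pullback.fst H.hom (jgen S) ≫ H.hom)
    (ly : Spec (CommRingCat.of (FractionRing (H.left.presheaf.stalk y))) ⟶ pullback H.hom (jgen S))
    (hly : ly ≫ pullback.fst H.hom (jgen S) = genMap H.left y)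
    (t : Spec (H.left.presheaf.stalk y) ⟶ T.left) (ht : t ≫ T.hom = H.left.fromSpecStalk y ≫ H.hom)
    (htl : Spec.map (CommRingCat.ofHom (algebraMap (H.left.presheaf.stalk y)
        (FractionRing (H.left.presheaf.stalk y)))) ≫ t = ly ≫ w) :
    ∃ (W : H.left.Opens) (g : W.toScheme ⟶ T.left), y ∈ W ∧ g ≫ T.hom = W.ι ≫ H.hom ∧
      pullback.fst H.hom (jgen S) ∣_ W ≫ g = (pullback.fst H.hom (jgen S) ⁻¹ᵁ W).ι ≫ w := by
  obtain ⟨W₀, hyW₀, g₀, hg₀, hg₀q⟩ := spread_out_of_isGermInjective' H.hom T.hom t ht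
  obtain ⟨W, hyW, hWW₀, hint, hgenO⟩ := exists_integral_nhd y W₀ hyW₀
  let E := pullback.fst H.hom (jgen S)
  refine ⟨W, H.left.homOfLE hWW₀ ≫ g₀, hyW, by rw [Category.assoc, hg₀q, Scheme.homOfLE_ι_assoc], ?_⟩
  let WK := E ⁻¹ᵁ W
  let eta' : Spec (CommRingCat.of (FractionRing (H.left.presheaf.stalk y))) ⟶ WK.toScheme :=
    IsOpenImmersion.lift WK.ι ly (by
      rw [Scheme.Opens.range_ι]
      rintro _ ⟨p, rfl⟩
      show E (ly p) ∈ W
      rw [← Scheme.Hom.comp_apply, hly]
      exact hgenO W ⟨y, hyW, hyW⟩ ⟨p, rfl⟩)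
  have heta : eta' ≫ WK.ι = ly := IsOpenImmersion.lift_fac _ _ _
  haveI : IsDominant eta' := ⟨fun p => by
    refine closure_mono (Set.singleton_subset_iff.2 (Set.mem_range_self (closedPoint _)))
      (Specializes.mem_closure (x := eta' (closedPoint _)) ?_)
    rw [← (E ∣_ W).isEmbedding.isInducing.specializes_iff, ← W.ι.isOpenEmbedding.isInducing.specializes_iff,
      ← Scheme.Hom.comp_apply, ← Scheme.Hom.comp_apply, morphismRestrict_ι, ← Category.assoc,
      heta, hly]
    refine specializes_iff_forall_open.2 fun O' hO' hp => ?_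
    exact hgenO ⟨O', hO'⟩ ⟨_, hp, ((E ∣_ W) p).2⟩ ⟨_, rfl⟩⟩
  haveI : IsReduced (pullback H.hom (jgen S)) :=
    WeilExt.isReduced_of_regular (WeilExt.regular_of_smooth
      (fun s => SmLocalST.isRegularLocalRing_stalk_spec (S.residueField (genericPoint S)) s)
      (pullback.snd H.hom (jgen S)))
  haveI : IsReduced WK.toScheme := isReduced_of_isOpenImmersion WK.ι
  refine ext_of_isDominant_of_isSeparated T.hom ?_ eta' ?_
  · simp only [Category.assoc, hg₀q, hw, Scheme.homOfLE_ι_assoc, morphismRestrict_ι_assoc]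
  · have h2 : eta' ≫ (E ∣_ W) ≫ H.left.homOfLE hWW₀ = Spec.map (CommRingCat.ofHom (algebraMap
        (H.left.presheaf.stalk y) (FractionRing (H.left.presheaf.stalk y)))) ≫ W₀.fromSpecStalkOfMem y hyW₀ := by
      rw [← cancel_mono W₀.ι]
      simp only [Category.assoc, Scheme.homOfLE_ι, morphismRestrict_ι, Scheme.Opens.fromSpecStalkOfMem_ι]
      rw [reassoc_of% heta, hly]
    rw [reassoc_of% h2, ← hg₀, htl, reassoc_of% heta]

/-- A morphism of generic fibres into an affine target extending at codimension one extends. -/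
theorem exists_extension (hnorm : ∀ s : S, IsIntegrallyClosed (S.presheaf.stalk s)) [IsAffineHom T.hom]
    [LocallyOfFiniteType T.hom]
    (w : pullback H.hom (jgen S) ⟶ T.left) (hw : w ≫ T.hom = pullback.fst H.hom (jgen S) ≫ H.hom)
    (h1 : ∀ x : H.left, ringKrullDim (H.left.presheaf.stalk x) ≤ 1 →
      ∃ t : Spec (H.left.presheaf.stalk x) ⟶ T.left, Compat w (H.left.fromSpecStalk x) t) :
    ∃ g : H.left ⟶ T.left, g ≫ T.hom = H.hom ∧ pullback.fst H.hom (jgen S) ≫ g = w := by
  haveI : IsReduced H.left := isReduced_of_smooth hnorm H.hom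
  let E := pullback.fst H.hom (jgen S)
  have key : ∀ y : H.left, ∃ (W : H.left.Opens) (g : W.toScheme ⟶ T.left), y ∈ W ∧ g ≫ T.hom = W.ι ≫ H.hom ∧
      E ∣_ W ≫ g = (E ⁻¹ᵁ W).ι ≫ w := fun y => by
    haveI := (normal_stalk hnorm H.hom y).1
    obtain ⟨ly, hly⟩ := exists_genMap_lift (S := S) y
    obtain ⟨t, ht, htl⟩ := exists_stalk_lift hnorm w hw h1 y ly hly
    exact exists_nhd_ext y w hw ly hly t ht htl
  choose W g hyW hg hgw using key
  let 𝒰 : H.left.OpenCover := Scheme.Cover.mkOfCovers H.left (fun i => (W i).toScheme) (fun i => (W i).ι)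
    (fun p => ⟨p, ⟨p, hyW p⟩, rfl⟩) (fun _ => inferInstance)
  have hcompat : ∀ i j, pullback.fst (W i).ι (W j).ι ≫ g i = pullback.snd (W i).ι (W j).ι ≫ g j := fun i j => by
    let a := pullback.fst (W i).ι (W j).ι
    let b := pullback.snd (W i).ι (W j).ι
    have hab : a ≫ (W i).ι = b ≫ (W j).ι := pullback.condition
    let To : Over S := Over.mk (a ≫ (W i).ι ≫ H.hom)
    haveI : Flat To.hom := inferInstanceAs (Flat (a ≫ (W i).ι ≫ H.hom))
    haveI : IsReduced To.left := isReduced_of_isOpenImmersion (a ≫ (W i).ι)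
    let u₁ : To ⟶ T := Over.homMk (a ≫ g i) (by rw [Category.assoc, hg]; rfl)
    let u₂ : To ⟶ T := Over.homMk (b ≫ g j) (by
      show (b ≫ g j) ≫ T.hom = a ≫ (W i).ι ≫ H.hom; rw [Category.assoc, hg, reassoc_of% hab])
    suffices u₁ = u₂ from congrArg CommaMorphism.left this
    refine hom_ext_generic u₁ u₂ (Over.OverMorphism.ext (pullback.hom_ext ?_ (by simp)))
    simp only [Over.pullback_map_left, pullback.lift_fst]
    show pullback.fst To.hom (jgen S) ≫ a ≫ g i = pullback.fst To.hom (jgen S) ≫ b ≫ g j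
    let e := pullback.lift (pullback.fst To.hom (jgen S) ≫ a ≫ (W i).ι) (pullback.snd _ _)
      (by simpa [To] using pullback.condition (f := To.hom) (g := jgen S))
    have he : e ≫ E = pullback.fst To.hom (jgen S) ≫ a ≫ (W i).ι := pullback.lift_fst _ _ _
    obtain ⟨ei, hei⟩ : ∃ k, k ≫ (E ⁻¹ᵁ W i).ι = e := ⟨IsOpenImmersion.lift _ e (by
      rw [Scheme.Opens.range_ι]; rintro _ ⟨t, rfl⟩
      show E (e t) ∈ W i
      rw [← Scheme.Hom.comp_apply, he, Scheme.Hom.comp_apply, Scheme.Hom.comp_apply]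
      exact Subtype.prop _), IsOpenImmersion.lift_fac _ _ _⟩
    obtain ⟨ej, hej⟩ : ∃ k, k ≫ (E ⁻¹ᵁ W j).ι = e := ⟨IsOpenImmersion.lift _ e (by
      rw [Scheme.Opens.range_ι]; rintro _ ⟨t, rfl⟩
      show E (e t) ∈ W j
      rw [← Scheme.Hom.comp_apply, he, hab, Scheme.Hom.comp_apply, Scheme.Hom.comp_apply]
      exact Subtype.prop _), IsOpenImmersion.lift_fac _ _ _⟩
    have h2 : pullback.fst To.hom (jgen S) ≫ a = ei ≫ E ∣_ W i := by
      rw [← cancel_mono (W i).ι, Category.assoc, Category.assoc, morphismRestrict_ι, reassoc_of% hei, he]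
    have h3 : pullback.fst To.hom (jgen S) ≫ b = ej ≫ E ∣_ W j := by
      rw [← cancel_mono (W j).ι, Category.assoc, Category.assoc, morphismRestrict_ι, reassoc_of% hej, he, hab]
    rw [reassoc_of% h2, reassoc_of% h3, hgw, hgw, reassoc_of% hei, reassoc_of% hej]
  refine ⟨𝒰.glueMorphisms g hcompat, 𝒰.hom_ext _ _ fun i => ?_, ?_⟩
  · rw [Scheme.Cover.ι_glueMorphisms_assoc]
    exact hg i
  · let 𝒱 := (Scheme.Cover.mkOfCovers H.left (fun i => (E ⁻¹ᵁ W i).toScheme) (fun i => (E ⁻¹ᵁ W i).ι)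
      (fun p => ⟨E p, ⟨p, hyW (E p)⟩, rfl⟩) (fun _ => inferInstance) :
      (pullback H.hom (jgen S)).OpenCover)
    refine 𝒱.hom_ext _ _ fun i => ?_
    show (E ⁻¹ᵁ W i).ι ≫ E ≫ 𝒰.glueMorphisms g hcompat = _
    rw [← morphismRestrict_ι_assoc]
    show E ∣_ W i ≫ 𝒰.f i ≫ _ = _
    rw [Scheme.Cover.ι_glueMorphisms, hgw]
    rfl

variable [GrpObj H] [GrpObj T]

/-- Homomorphisms into groups of multiplicative type extend from the generic fibre. -/
theorem exists_hom_extension (hnorm : ∀ s : S, IsIntegrallyClosed (S.presheaf.stalk s))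
    [GeometricallyIrreducible H.hom] (hT : SGA3x.IsMultTypeFT T)
    (uη : Red.bc (jgen S) H ⟶ Red.bc (jgen S) T) [IsMonHom uη] :
    ∃ u : H ⟶ T, IsMonHom u ∧ (Over.pullback (jgen S)).map u = uη := by
  haveI := MTBridge.isAffineHom T hT
  haveI := MTFT.locallyOfFiniteType T hT
  haveI : IsSeparated T.hom := inferInstance
  let w : pullback H.hom (jgen S) ⟶ T.left := uη.left ≫ pullback.fst T.hom (jgen S)
  have hw : w ≫ T.hom = pullback.fst H.hom (jgen S) ≫ H.hom := by
    rw [Category.assoc, pullback.condition, pullback.condition]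
    exact (Category.assoc _ _ _).symm.trans (congrArg (· ≫ jgen S) (Over.w uη))
  have hone : pullback.lift (jgen S ≫ (1 : Over.mk (𝟙 S) ⟶ H).left) (𝟙 _)
      (by rw [Category.assoc, Over.w]; simp) ≫ w = jgen S ≫ (1 : Over.mk (𝟙 S) ⟶ T).left := by
    have e : pullback.lift (jgen S ≫ (1 : Over.mk (𝟙 S) ⟶ H).left) (𝟙 _)
        (by rw [Category.assoc, Over.w]; simp) =
        (1 : Over.mk (𝟙 (Spec (S.residueField (genericPoint S)))) ⟶ Red.bc (jgen S) H).left := by
      apply pullback.hom_ext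
      · rw [pullback.lift_fst]
        exact (one_bc_fst (R := S.residueField (genericPoint S)) (jgen S) H).symm
      · rw [pullback.lift_snd]
        exact (Over.w (1 : Over.mk (𝟙 (Spec (S.residueField (genericPoint S)))) ⟶ Red.bc (jgen S) H)).symm
    have h : (1 : Over.mk (𝟙 (Spec (S.residueField (genericPoint S)))) ⟶ Red.bc (jgen S) H) ≫ uη = 1 :=
      MonObj.one_comp uη
    rw [e, ← Category.assoc]
    refine (congrArg (fun k : Over.mk (𝟙 (Spec (S.residueField (genericPoint S)))) ⟶ Red.bc (jgen S) T =>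
      k.left ≫ pullback.fst T.hom (jgen S)) h).trans ?_
    exact one_bc_fst (R := S.residueField (genericPoint S)) (jgen S) T
  obtain ⟨g, hg, hgE⟩ := exists_extension hnorm w hw
    fun x hx => exists_stalk_lift_dim_one hnorm hT w hw hone x hx
  let u : H ⟶ T := Over.homMk g hg
  have hmap : (Over.pullback (jgen S)).map u = uη := by
    refine Over.OverMorphism.ext (pullback.hom_ext ?_ ?_)
    · simp only [Over.pullback_map_left, pullback.lift_fst, u, Over.homMk_left]
      exact hgE
    · exact (Over.w _).trans (Over.w uη).symm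
  refine ⟨u, ?_, hmap⟩
  haveI : IsReduced (H ⊗ H).left := by
    haveI : Smooth (H ⊗ H).hom := inferInstanceAs (Smooth (pullback.fst H.hom H.hom ≫ H.hom))
    exact isReduced_of_smooth hnorm (H ⊗ H).hom
  haveI : Flat (H ⊗ H).hom := inferInstanceAs (Flat (pullback.fst H.hom H.hom ≫ H.hom))
  haveI : IsReduced (𝟙_ (Over S)).left := inferInstanceAs (IsReduced S)
  haveI : Flat (𝟙_ (Over S)).hom := inferInstanceAs (Flat (𝟙 S))
  have hmulpts : μ[H] ≫ u = (fst H H ≫ u) * (snd H H ≫ u) := by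
    refine hom_ext_generic _ _ ?_
    rw [MonObj.mul_eq_mul, Functor.map_mul, Functor.map_comp, Functor.map_comp, Functor.map_comp,
      Functor.map_mul, hmap, MonObj.mul_comp]
  refine ⟨?_, ?_⟩
  · refine hom_ext_generic _ _ ?_
    rw [Functor.map_comp, hmap, MonObj.one_eq_one, MonObj.one_eq_one, Functor.map_one, Functor.map_one,
      MonObj.one_comp]
  · rw [hmulpts, Hom.mul_def]
    congr 1

end Groth.Agent.MTExt
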