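import Groth.Agent.MTExt.Descent
import Groth.Agent.S4989

/-!
# Homomorphisms into groups of multiplicative type extend from the generic fibre over a normal base
-/

set_option autoImplicit false
set_option linter.style.haveILetI false
set_option backward.isDefEq.respectTransparency false
set_option backward.isDefEq.respectTransparency.types false
set_option synthInstance.maxHeartbeats 400000
set_option maxHeartbeats 1000000

universe u

open CategoryTheory CategoryTheory.Limits MonoidalCategory CartesianMonoidalCategory AlgebraicGeometry IsLocalRing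
open MonObj TopologicalSpace
open scoped CategoryTheory.Obj

noncomputable section

namespace Groth.Agent.MTExt

open Groth.Agent.SectionExt

variable {S : Scheme.{u}} [IsIntegral S]

/-- The inclusion of the generic point. -/
abbrev jgen (S : Scheme.{u}) [IsIntegral S] : Spec (S.residueField (genericPoint S)) ⟶ S :=
  S.fromSpecResidueField (genericPoint S)

/-- Spectra of local rings mapping to the generic point lift to it. -/
theorem exists_lift_jgen {R : CommRingCat.{u}} [IsLocalRing R] (f : Spec R ⟶ S)
    (h : f (closedPoint R) = genericPoint S) :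
    ∃ k : Spec R ⟶ Spec (S.residueField (genericPoint S)), k ≫ jgen S = f := by
  obtain ⟨ψ, hψ⟩ := SectionExt.exists_fac_fromSpecStalk f h
  haveI : IsIso (S.residue (genericPoint S)) := by
    rw [ConcreteCategory.isIso_iff_bijective]
    letI : Field (S.presheaf.stalk (genericPoint S)) := inferInstanceAs (Field S.functionField)
    exact ⟨RingHom.injective _, Scheme.residue_surjective _ _⟩
  refine ⟨Spec.map (inv (S.residue (genericPoint S)) ≫ ψ), ?_⟩
  show _ ≫ Spec.map (S.residue (genericPoint S)) ≫ S.fromSpecStalk (genericPoint S) = f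
  rw [← Category.assoc, ← Spec.map_comp, IsIso.hom_inv_id_assoc, hψ]

theorem range_jgen : Set.range (jgen S) = {genericPoint S} :=
  Scheme.range_fromSpecResidueField (genericPoint S)

/-- The generic fibre of a flat scheme over an integral base is dense. -/
theorem dense_generic {Y : Scheme.{u}} (q : Y ⟶ S) [Flat q] :
    DenseRange (pullback.fst q (jgen S)) := fun y => by
  obtain ⟨y', hy', hy''⟩ := Flat.generalizingMap q (genericPoint_specializes (q y))
  refine closure_mono (Set.singleton_subset_iff.2 ?_) hy'.mem_closure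
  rw [Scheme.Pullback.range_fst, range_jgen]
  exact hy''

theorem genMap_pt {X : Scheme.{u}} (x : X) [IsDomain (X.presheaf.stalk x)]
    (P : PrimeSpectrum (X.presheaf.stalk x)) (hP : P.asIdeal = ⊥) :
    genMap X x (closedPoint (FractionRing (X.presheaf.stalk x))) = X.fromSpecStalk x P := by
  show X.fromSpecStalk x _ = _
  congr 1
  refine PrimeSpectrum.ext ?_
  rw [hP]
  show (closedPoint (FractionRing (X.presheaf.stalk x))).asIdeal.comap
    (algebraMap (X.presheaf.stalk x) (FractionRing (X.presheaf.stalk x))) = ⊥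
  rw [show (closedPoint (FractionRing (X.presheaf.stalk x))).asIdeal = maximalIdeal _ from rfl,
    IsLocalRing.maximalIdeal_eq_bot, Ideal.comap_bot_of_injective _ (IsFractionRing.injective _ _)]

/-- Morphisms from a reduced flat scheme to a separated one agreeing on the generic fibre agree. -/
theorem hom_ext_generic {X T : Over S} [Flat X.hom] [IsReduced X.left] [IsSeparated T.hom] (f g : X ⟶ T)
    (h : (Over.pullback (jgen S)).map f = (Over.pullback (jgen S)).map g) : f = g := by
  haveI : IsDominant (pullback.fst X.hom (jgen S)) := ⟨dense_generic X.hom⟩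
  have h' := congrArg (fun k => k.left ≫ pullback.fst T.hom (jgen S)) h
  simp only [Over.pullback_map_left, pullback.lift_fst] at h'
  exact Over.OverMorphism.ext
    (ext_of_isDominant_of_isSeparated T.hom ((Over.w f).trans (Over.w g).symm) _ h')

variable [IsLocallyNoetherian S] {H T : Over S} [Smooth H.hom]

/-- The stalks of a smooth scheme over a normal base are normal domains. -/
theorem normal_stalk (hnorm : ∀ s : S, IsIntegrallyClosed (S.presheaf.stalk s)) {X : Scheme.{u}} (q : X ⟶ S)
    [Smooth q] (x : X) : IsDomain (X.presheaf.stalk x) ∧ IsIntegrallyClosed (X.presheaf.stalk x) := by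
  have hx : x ∈ q.smoothLocus := by rw [q.smoothLocus_eq_top_iff.2 ‹Smooth q›]; trivial
  exact (S4989.result q x hx).2.2 ⟨inferInstance, hnorm _⟩

theorem isReduced_of_smooth (hnorm : ∀ s : S, IsIntegrallyClosed (S.presheaf.stalk s)) {X : Scheme.{u}} (q : X ⟶ S)
    [Smooth q] : IsReduced X := by
  haveI : ∀ x : X, _root_.IsReduced (X.presheaf.stalk x) := fun x => by
    haveI := (normal_stalk hnorm q x).1
    infer_instance
  exact isReduced_of_isReduced_stalk X

/-- A morphism of a neighbourhood compatible with a morphism of the generic fibre. -/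
def Compat (w : pullback H.hom (jgen S) ⟶ T.left) {R : CommRingCat.{u}} (j : Spec R ⟶ H.left)
    (t : Spec R ⟶ T.left) : Prop :=
  t ≫ T.hom = j ≫ H.hom ∧ ∀ (L : Type u) [Field L] (p : Spec (CommRingCat.of L) ⟶ Spec R)
    (l : Spec (CommRingCat.of L) ⟶ pullback H.hom (jgen S)),
    l ≫ pullback.fst H.hom (jgen S) = p ≫ j → p ≫ t = l ≫ w

/-- A lift specializing from the generic point gives an extension at a codimension one point. -/
theorem exists_compat_of_specializes (w : pullback H.hom (jgen S) ⟶ T.left) (y₀ : ↥(pullback T.hom H.hom))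
    [IsDomain (H.left.presheaf.stalk (pullback.snd T.hom H.hom y₀))]
    [IsIntegrallyClosed (H.left.presheaf.stalk (pullback.snd T.hom H.hom y₀))]
    [IsLocallyNoetherian H.left]
    (hdim : ringKrullDim (H.left.presheaf.stalk (pullback.snd T.hom H.hom y₀)) ≤ 1)
    (lx : Spec (CommRingCat.of (FractionRing (H.left.presheaf.stalk (pullback.snd T.hom H.hom y₀)))) ⟶
      pullback H.hom (jgen S))
    (hlx : lx ≫ pullback.fst H.hom (jgen S) = genMap H.left (pullback.snd T.hom H.hom y₀))
    (hP : pullback H.hom (jgen S) ⟶ pullback T.hom H.hom)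
    (hP1 : hP ≫ pullback.fst T.hom H.hom = w)
    (hP2 : hP ≫ pullback.snd T.hom H.hom = pullback.fst H.hom (jgen S))
    (hsp : (lx ≫ hP) (closedPoint _) ⤳ y₀)
    (hs : H.hom (pullback.snd T.hom H.hom y₀) ≠ genericPoint S) :
    ∃ t : Spec (H.left.presheaf.stalk (pullback.snd T.hom H.hom y₀)) ⟶ T.left,
      Compat w (H.left.fromSpecStalk (pullback.snd T.hom H.hom y₀)) t := by
  let q := pullback.snd T.hom H.hom
  haveI : ValuationRing (H.left.presheaf.stalk (q y₀)) := RatExt.valuationRing_of_dim_le_one hdim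
  obtain ⟨ψ, hψ⟩ := SectionExt.exists_fac_fromSpecStalk (lx ≫ hP) (x := (lx ≫ hP) (closedPoint _)) rfl
  let ν := (pullback T.hom H.hom).presheaf.stalkSpecializes hsp ≫ ψ
  have hν : Spec.map ν ≫ (pullback T.hom H.hom).fromSpecStalk y₀ = lx ≫ hP := by
    rw [Spec.map_comp, Category.assoc, Scheme.SpecMap_stalkSpecializes_fromSpecStalk hsp, hψ]
  have hνφ : ν.hom.comp (q.stalkMap y₀).hom =
      algebraMap (H.left.presheaf.stalk (q y₀)) (FractionRing (H.left.presheaf.stalk (q y₀))) := by
    suffices q.stalkMap y₀ ≫ ν = CommRingCat.ofHom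
        (algebraMap ↑(H.left.presheaf.stalk (q y₀)) (FractionRing ↑(H.left.presheaf.stalk (q y₀)))) from
      congrArg CommRingCat.Hom.hom this
    apply Spec.map_injective
    rw [← cancel_mono (H.left.fromSpecStalk (q y₀)), Spec.map_comp, Category.assoc,
      Scheme.SpecMap_stalkMap_fromSpecStalk, reassoc_of% hν]
    show lx ≫ hP ≫ q = _
    rw [hP2]
    exact hlx
  haveI : IsLocalHom (q.stalkMap y₀).hom := inferInstance
  obtain ⟨σ, hσ₁, hσ₂, hσ₃⟩ := exists_retraction (q.stalkMap y₀).hom
    (algebraMap (H.left.presheaf.stalk (q y₀)) (FractionRing (H.left.presheaf.stalk (q y₀))))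
    (IsFractionRing.injective _ _) ν.hom hνφ (NeronCrit.range_le_of_valuationRing _ _ hνφ)
  have hσ : q.stalkMap y₀ ≫ CommRingCat.ofHom σ = 𝟙 _ := CommRingCat.hom_ext hσ₁
  let φ : Spec (H.left.presheaf.stalk (q y₀)) ⟶ pullback T.hom H.hom :=
    Spec.map (CommRingCat.ofHom σ) ≫ (pullback T.hom H.hom).fromSpecStalk y₀
  have hφq : φ ≫ q = H.left.fromSpecStalk (q y₀) := by
    rw [Category.assoc, ← Scheme.SpecMap_stalkMap_fromSpecStalk, ← Category.assoc, ← Spec.map_comp, hσ,
      Spec.map_id, Category.id_comp]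
  refine ⟨φ ≫ pullback.fst T.hom H.hom, by
    rw [Category.assoc, pullback.condition]; exact (Category.assoc _ _ _).symm.trans (congrArg (· ≫ _) hφq),
    fun L _ p l hl => ?_⟩
  obtain ⟨ρ, rfl⟩ : ∃ ρ, Spec.map ρ = p := ⟨_, Spec.map_preimage p⟩
  haveI : Ring.KrullDimLE 1 (H.left.presheaf.stalk (q y₀)) := Ring.krullDimLE_iff.2 hdim
  have hρ : Function.Injective ρ.hom := by
    rw [RingHom.injective_iff_ker_eq_bot]
    by_contra hne
    haveI := RingHom.ker_isPrime ρ.hom
    have hmax := eq_maximalIdeal ((RingHom.ker_isPrime ρ.hom).isMaximal_of_ne_bot hne)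
    have h1 : Spec.map ρ (closedPoint L) = closedPoint _ := PrimeSpectrum.ext (by
      show (closedPoint L).asIdeal.comap ρ.hom = maximalIdeal _
      rw [show (closedPoint L).asIdeal = maximalIdeal _ from rfl, IsLocalRing.maximalIdeal_eq_bot]
      exact hmax)
    refine hs ?_
    have h2 := congr($hl (closedPoint L))
    rw [Scheme.Hom.comp_apply, Scheme.Hom.comp_apply, h1, Scheme.fromSpecStalk_closedPoint] at h2
    rw [← h2, ← Scheme.Hom.comp_apply, pullback.condition, Scheme.Hom.comp_apply]
    exact range_jgen.le ⟨_, rfl⟩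
  let ρ' : CommRingCat.of (FractionRing (H.left.presheaf.stalk (q y₀))) ⟶ CommRingCat.of L :=
    CommRingCat.ofHom (IsFractionRing.lift hρ)
  have hρ' : Spec.map ρ = Spec.map ρ' ≫ Spec.map (CommRingCat.ofHom
      (algebraMap (H.left.presheaf.stalk (q y₀)) (FractionRing (H.left.presheaf.stalk (q y₀))))) := by
    rw [← Spec.map_comp]
    exact congrArg Spec.map (CommRingCat.hom_ext (RingHom.ext fun a => (IsFractionRing.lift_algebraMap hρ a).symm))
  have hl' : Spec.map ρ' ≫ lx = l := (cancel_mono (pullback.fst H.hom (jgen S))).1 (by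
    rw [Category.assoc, hlx, hl, hρ']
    exact (Category.assoc _ _ _).symm)
  have hσν : Spec.map (CommRingCat.ofHom
      (algebraMap (H.left.presheaf.stalk (q y₀)) (FractionRing (H.left.presheaf.stalk (q y₀))))) ≫ φ =
      lx ≫ hP := by
    rw [← hν, ← Category.assoc, ← Spec.map_comp]
    exact congrArg (fun f => Spec.map f ≫ _) (CommRingCat.hom_ext hσ₂)
  rw [hρ', Category.assoc, reassoc_of% hσν, hP1, reassoc_of% hl']

variable [GrpObj H] [GrpObj T]

/-- Extension at the points of codimension at most one. -/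
theorem exists_stalk_lift_dim_one (hnorm : ∀ s : S, IsIntegrallyClosed (S.presheaf.stalk s))
    [GeometricallyIrreducible H.hom] (hT : SGA3x.IsMultTypeFT T)
    (w : pullback H.hom (jgen S) ⟶ T.left) (hw : w ≫ T.hom = pullback.fst H.hom (jgen S) ≫ H.hom)
    (hone : pullback.lift (jgen S ≫ (1 : Over.mk (𝟙 S) ⟶ H).left) (𝟙 _)
        (by rw [Category.assoc, Over.w]; simp) ≫ w = jgen S ≫ (1 : Over.mk (𝟙 S) ⟶ T).left)
    (x : H.left) (hdim : ringKrullDim (H.left.presheaf.stalk x) ≤ 1) :
    ∃ t : Spec (H.left.presheaf.stalk x) ⟶ T.left, Compat w (H.left.fromSpecStalk x) t := by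
  haveI : IsLocallyNoetherian H.left := LocallyOfFiniteType.isLocallyNoetherian H.hom
  haveI : Mono (pullback.fst H.hom (jgen S)) := inferInstance
  by_cases hs : H.hom x = genericPoint S
  · obtain ⟨k, hk⟩ := exists_lift_jgen (H.left.fromSpecStalk x ≫ H.hom)
      (by rw [Scheme.Hom.comp_apply, Scheme.fromSpecStalk_closedPoint, hs])
    let q := pullback.lift (H.left.fromSpecStalk x) k hk.symm
    refine ⟨q ≫ w, by rw [Category.assoc, hw, pullback.lift_fst_assoc], fun L _ p l hl => ?_⟩
    rw [← Category.assoc]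
    refine congrArg (· ≫ w) ((cancel_mono (pullback.fst H.hom (jgen S))).1 ?_)
    rw [Category.assoc, pullback.lift_fst, hl]
  obtain ⟨hOd, hOn⟩ := normal_stalk hnorm H.hom x
  haveI := hOd
  haveI := hOn
  letI := (H.hom.stalkMap x).hom.toAlgebra
  haveI : Module.Flat (S.presheaf.stalk (H.hom x)) (H.left.presheaf.stalk x) := Flat.stalkMap H.hom x
  haveI : IsLocalHom (algebraMap (S.presheaf.stalk (H.hom x)) (H.left.presheaf.stalk x)) :=
    inferInstanceAs (IsLocalHom (H.hom.stalkMap x).hom)
  obtain ⟨eqv⟩ := CMFlat.nonempty_fiberStalk_equiv H.hom x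
  obtain ⟨c', e', hc, he, hce⟩ :=
    CMFlat.dims (R := S.presheaf.stalk (H.hom x)) (S := H.left.presheaf.stalk x)
  haveI : IsIntegrallyClosed (S.presheaf.stalk (H.hom x)) := hnorm _
  have hnf : ¬ IsField (S.presheaf.stalk (H.hom x)) := fun hf => hs (by
    have h2 := genericPoint_specializes (H.hom x)
    obtain ⟨P, hP⟩ := Scheme.range_fromSpecStalk.ge h2
    letI := hf.toField
    rw [show P = closedPoint _ from Subsingleton.elim (α := PrimeSpectrum _) _ _,
      Scheme.fromSpecStalk_closedPoint] at hP
    exact hP)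
  have hce1 : c' + e' ≤ 1 := by
    have h := hdim
    rw [hce] at h
    exact_mod_cast h
  have hc0 : c' ≠ 0 := fun h0 => hnf (by
    haveI : Ring.KrullDimLE 0 (S.presheaf.stalk (H.hom x)) := Ring.krullDimLE_iff.2 (by rw [hc, h0])
    exact Ring.KrullDimLE.isField_of_isDomain)
  have he0 : e' = 0 := by omega
  haveI : Ring.KrullDimLE 1 (S.presheaf.stalk (H.hom x)) := Ring.krullDimLE_iff.2 (by
    rw [hc]; exact_mod_cast (show c' ≤ 1 by omega))
  haveI hAdvr : IsDiscreteValuationRing (S.presheaf.stalk (H.hom x)) := by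
    have hne : maximalIdeal (S.presheaf.stalk (H.hom x)) ≠ ⊥ := fun h =>
      hnf (IsLocalRing.isField_iff_maximalIdeal_eq.2 h)
    have hE : ∃! P : Ideal (S.presheaf.stalk (H.hom x)), P ≠ ⊥ ∧ P.IsPrime :=
      ⟨_, ⟨hne, inferInstance⟩, fun P hP => eq_maximalIdeal (hP.2.isMaximal_of_ne_bot hP.1)⟩
    have h30 : IsIntegrallyClosed (S.presheaf.stalk (H.hom x)) ∧
        (∃! P : Ideal (S.presheaf.stalk (H.hom x)), P ≠ ⊥ ∧ P.IsPrime) ↔
        IsDiscreteValuationRing (S.presheaf.stalk (H.hom x)) :=
      (IsDiscreteValuationRing.TFAE _ hnf).out 3 0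
    exact h30.1 ⟨hnorm _, hE⟩
  -- the point is generic in its fibre
  have hxmax : ∀ y : H.left, H.hom y = H.hom x → x ⤳ y := fun y hy => by
    haveI : IrreducibleSpace ↥(H.hom.fiber (H.hom x)) := inferInstance
    have hd0 : ringKrullDim ((H.hom.fiber (H.hom x)).presheaf.stalk (H.hom.asFiber x)) = 0 := by
      rw [← ringKrullDim_eq_of_ringEquiv eqv]
      refine he.trans ?_
      rw [he0]; simp
    have hgen : genericPoint ↥(H.hom.fiber (H.hom x)) = H.hom.asFiber x :=
      ((SpQS.stalk_dim_zero_iff _).1 hd0) _ (genericPoint_specializes _)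
    obtain ⟨z, rfl⟩ := (Scheme.Hom.range_fiberι H.hom (H.hom x)).ge hy
    have h := (genericPoint_specializes z).map (H.hom.fiberι _).continuous
    rwa [hgen, H.hom.fiberι_asFiber] at h
  let A : Type u := S.presheaf.stalk (H.hom x)
  let c : Spec (CommRingCat.of A) ⟶ S := S.fromSpecStalk (H.hom x)
  let HA := Red.bc c H
  let TA := Red.bc c T
  haveI : Smooth HA.hom := inferInstanceAs (Smooth (pullback.snd H.hom c))
  haveI : GeometricallyIrreducible HA.hom := MorphismProperty.pullback_snd _ _ ‹GeometricallyIrreducible H.hom›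
  haveI : IsPreimmersion c := inferInstanceAs (IsPreimmersion (S.fromSpecStalk (H.hom x)))
  obtain ⟨xA, hxA1, hxA2⟩ := Scheme.Pullback.exists_preimage_pullback (f := H.hom) (g := c) x (closedPoint A)
    Scheme.fromSpecStalk_closedPoint.symm
  have hmaxA : ∀ y, HA.hom y = closedPoint A → xA ⤳ y := fun y hy => by
    refine (pullback.fst H.hom c).isEmbedding.isInducing.specializes_iff.1 ?_
    rw [hxA1]
    refine hxmax _ ?_
    rw [← Scheme.Hom.comp_apply, pullback.condition, Scheme.Hom.comp_apply]
    exact (congrArg c hy).trans Scheme.fromSpecStalk_closedPoint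
  have hgenA : (Neron.genPt A ≫ c) (closedPoint (FractionRing A)) = genericPoint S := by
    obtain ⟨P, hP⟩ := Scheme.range_fromSpecStalk.ge (genericPoint_specializes (H.hom x))
    have hbot : P.asIdeal = ⊥ := by
      by_contra h
      rw [show P = closedPoint _ from PrimeSpectrum.ext (eq_maximalIdeal (P.isPrime.isMaximal h)),
        Scheme.fromSpecStalk_closedPoint] at hP
      exact hs hP
    rw [Scheme.Hom.comp_apply, ← hP]
    refine congrArg c (PrimeSpectrum.ext ?_)
    rw [hbot]
    show (closedPoint (FractionRing A)).asIdeal.comap (algebraMap A (FractionRing A)) = ⊥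
    rw [show (closedPoint (FractionRing A)).asIdeal = maximalIdeal _ from rfl, IsLocalRing.maximalIdeal_eq_bot,
      Ideal.comap_bot_of_injective _ (IsFractionRing.injective A _)]
  obtain ⟨k, hk⟩ := exists_lift_jgen (Neron.genPt A ≫ c) hgenA
  let m : pullback HA.hom (Neron.genPt A) ⟶ pullback H.hom (jgen S) :=
    pullback.lift (pullback.fst HA.hom (Neron.genPt A) ≫ pullback.fst H.hom c)
      (pullback.snd HA.hom (Neron.genPt A) ≫ k)
      (by rw [Category.assoc, pullback.condition, Category.assoc, hk]; exact pullback.condition_assoc c)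
  let wA : pullback HA.hom (Neron.genPt A) ⟶ TA.left :=
    pullback.lift (m ≫ w) (pullback.snd HA.hom (Neron.genPt A) ≫ Neron.genPt A) (by
      rw [Category.assoc, hw, pullback.lift_fst_assoc, Category.assoc, pullback.condition, Category.assoc]
      exact pullback.condition_assoc c)
  have honeA : pullback.lift (Neron.genPt A ≫ (1 : Over.mk (𝟙 (Spec (CommRingCat.of A))) ⟶ HA).left) (𝟙 _)
      (by rw [Category.assoc, Over.w]; simp) ≫ wA =
      Neron.genPt A ≫ (1 : Over.mk (𝟙 (Spec (CommRingCat.of A))) ⟶ TA).left := by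
    apply pullback.hom_ext
    · rw [Category.assoc, pullback.lift_fst]
      refine Eq.trans ?_ ((Category.assoc _ _ _).trans
        ((congrArg (Neron.genPt A ≫ ·) (one_bc_fst c T)).trans
          ((reassoc_of% hk) _).symm)).symm
      rw [← hone]
      refine Eq.trans ?_ (Category.assoc _ _ _)
      refine Eq.trans (Category.assoc _ _ _).symm ?_
      congr 1
      apply pullback.hom_ext
      · simp only [m, Category.assoc, pullback.lift_fst, pullback.lift_fst_assoc]
        rw [one_bc_fst, reassoc_of% hk]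
      · simp only [m, Category.assoc, pullback.lift_snd, pullback.lift_snd_assoc, Category.id_comp, Category.comp_id]
    · rw [Category.assoc, pullback.lift_snd, pullback.lift_snd_assoc, Category.id_comp, Category.assoc]
      exact ((congrArg (Neron.genPt A ≫ ·)
        (Over.w (1 : Over.mk (𝟙 (Spec (CommRingCat.of A))) ⟶ TA))).trans (Category.comp_id _)).symm
  obtain ⟨D, _, _, L, _, i, j, t, l, h1, h2, h3, h4⟩ := exists_lift_special HA TA
    (MTBridge.isMultTypeFT_bc T c hT) wA
    ((pullback.lift_snd (f := T.hom) (g := c) _ _ _).trans pullback.condition.symm) honeA xA hxA2 hmaxA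
  let jH : Spec (CommRingCat.of D) ⟶ H.left := j ≫ pullback.fst H.hom c
  let tT : Spec (CommRingCat.of D) ⟶ T.left := t ≫ pullback.fst T.hom c
  have hjt : tT ≫ T.hom = jH ≫ H.hom := by
    simp only [tT, jH, Category.assoc, pullback.condition]
    exact (Category.assoc _ _ _).symm.trans ((congrArg (· ≫ c) h1).trans (Category.assoc _ _ _))
  let τ : Spec (CommRingCat.of D) ⟶ pullback T.hom H.hom := pullback.lift tT jH hjt
  obtain ⟨y₀, hy₀⟩ : ∃ y₀, τ (closedPoint D) = y₀ := ⟨_, rfl⟩
  have hqy : pullback.snd T.hom H.hom y₀ = x := by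
    rw [← hy₀, ← Scheme.Hom.comp_apply, pullback.lift_snd, Scheme.Hom.comp_apply, h2]
    exact hxA1
  -- the generic lift
  obtain ⟨lx, hlx⟩ : ∃ lx, lx ≫ pullback.fst H.hom (jgen S) = genMap H.left x := by
    obtain ⟨k', hk'⟩ := exists_lift_jgen (genMap H.left x ≫ H.hom) (by
      obtain ⟨y', hy', hy''⟩ := Flat.generalizingMap H.hom (genericPoint_specializes (H.hom x))
      obtain ⟨P, hP⟩ := Scheme.range_fromSpecStalk.ge hy'
      have hsp : genMap H.left x (closedPoint _) ⤳ y' := by
        rw [← hP, genMap_pt x ⟨⊥, Ideal.isPrime_bot⟩ rfl]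
        exact Specializes.map ((PrimeSpectrum.le_iff_specializes _ P).1 bot_le) (H.left.fromSpecStalk x).continuous
      have h := hsp.map H.hom.continuous
      rw [hy''] at h
      rw [Scheme.Hom.comp_apply]
      exact (h.antisymm (genericPoint_specializes _)).eq)
    exact ⟨pullback.lift _ k' hk'.symm, pullback.lift_fst _ _ _⟩
  let hP : pullback H.hom (jgen S) ⟶ pullback T.hom H.hom :=
    pullback.lift w (pullback.fst H.hom (jgen S)) hw
  have hτL : Spec.map (CommRingCat.ofHom i) ≫ τ = (l ≫ m) ≫ hP := by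
    apply pullback.hom_ext
    · simp only [τ, hP, tT, Category.assoc, pullback.lift_fst]
      rw [reassoc_of% h4, pullback.lift_fst]
    · simp only [τ, hP, jH, m, Category.assoc, pullback.lift_snd, pullback.lift_fst]
      rw [reassoc_of% h3]
  have hz : (Spec.map (CommRingCat.ofHom i) ≫ jH) (closedPoint L) = genMap H.left x (closedPoint _) := by
    have hzx : (Spec.map (CommRingCat.ofHom i) ≫ jH) (closedPoint L) ⤳ x := by
      rw [Scheme.Hom.comp_apply, ← hqy, ← hy₀, ← Scheme.Hom.comp_apply τ, pullback.lift_snd]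
      exact (IsLocalRing.specializes_closedPoint _).map jH.continuous
    have hzs : H.hom ((Spec.map (CommRingCat.ofHom i) ≫ jH) (closedPoint L)) = genericPoint S := by
      have e : (Spec.map (CommRingCat.ofHom i) ≫ jH) = (l ≫ m) ≫ pullback.fst H.hom (jgen S) := by
        simp only [jH, m, Category.assoc, pullback.lift_fst]
        rw [reassoc_of% h3]
      rw [e, ← Scheme.Hom.comp_apply, Category.assoc, pullback.condition, ← Category.assoc, Scheme.Hom.comp_apply]
      exact range_jgen.le ⟨_, rfl⟩
    obtain ⟨P, hP'⟩ := Scheme.range_fromSpecStalk.ge hzx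
    haveI : Ring.KrullDimLE 1 (H.left.presheaf.stalk x) := Ring.krullDimLE_iff.2 hdim
    have hbot : P.asIdeal = ⊥ := by
      by_contra h
      rw [← hP', show P = closedPoint _ from PrimeSpectrum.ext (eq_maximalIdeal (P.isPrime.isMaximal_of_ne_bot h)),
        Scheme.fromSpecStalk_closedPoint] at hzs
      exact hs hzs
    rw [← hP', genMap_pt x P hbot]
  have hsp : (lx ≫ hP) (closedPoint _) ⤳ y₀ := by
    have e1 : lx (closedPoint _) = (l ≫ m) (closedPoint L) := by
      refine (pullback.fst H.hom (jgen S)).isEmbedding.injective ?_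
      rw [← Scheme.Hom.comp_apply, hlx, ← hz, ← Scheme.Hom.comp_apply]
      simp only [jH, m, Category.assoc, pullback.lift_fst]
      rw [reassoc_of% h3]
    rw [Scheme.Hom.comp_apply, e1, ← Scheme.Hom.comp_apply, ← hτL, ← hy₀, Scheme.Hom.comp_apply]
    exact (IsLocalRing.specializes_closedPoint _).map τ.continuous
  have hval : ValuationRing (H.left.presheaf.stalk x) := RatExt.valuationRing_of_dim_le_one hdim
  have hPeq : hP ≫ pullback.fst T.hom H.hom = w ∧ hP ≫ pullback.snd T.hom H.hom = pullback.fst H.hom (jgen S) :=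
    ⟨pullback.lift_fst _ _ _, pullback.lift_snd _ _ _⟩
  clear hτL hz hy₀
  clear_value hP
  subst hqy
  exact exists_compat_of_specializes w y₀ hdim lx hlx hP hPeq.1 hPeq.2 hsp hs

end Groth.Agent.MTExt
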