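import Groth.Agent.MTExt.StalkHom

/-!
# Homomorphisms over a dense open extend
-/

set_option autoImplicit false
set_option linter.style.haveILetI false
set_option backward.isDefEq.respectTransparency false
set_option backward.isDefEq.respectTransparency.types false
set_option synthInstance.maxHeartbeats 400000
set_option maxHeartbeats 1000000

universe u

open CategoryTheory CategoryTheory.Limits MonoidalCategory CartesianMonoidalCategory AlgebraicGeometry IsLocalRing
open MonObj TopologicalSpace
open scoped CategoryTheory.Obj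

noncomputable section

namespace Groth.Agent.MTExt

section

variable {S S' S'' : Scheme.{u}} (f : S'' ⟶ S') (g : S' ⟶ S) {d : S'' ⟶ S} (h : f ≫ g = d)

theorem bcCompInv_fst (X : Over S) :
    (ActBC.bcCompIso f g X h).inv.left ≫ pullback.fst (Red.bc g X).hom f ≫ pullback.fst X.hom g =
      pullback.fst X.hom d := by
  rw [← ActBC.bcCompIso_hom_left_fst f g X h, ← Category.assoc, ← Over.comp_left, Iso.inv_hom_id]
  exact Category.id_comp _

theorem bcCompInv_snd (X : Over S) :
    (ActBC.bcCompIso f g X h).inv.left ≫ pullback.fst (Red.bc g X).hom f ≫ pullback.snd X.hom g =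
      pullback.snd X.hom d ≫ f := by
  refine (congrArg (fun z => (ActBC.bcCompIso f g X h).inv.left ≫ z) pullback.condition).trans ?_
  rw [← Category.assoc]
  exact congrArg (· ≫ f) (Over.w (ActBC.bcCompIso f g X h).inv)

theorem conj_left_fst (X Y : Over S) (φ : Red.bc g X ⟶ Red.bc g Y) :
    ((ActBC.bcCompIso f g X h).inv ≫ (Over.pullback f).map φ ≫ (ActBC.bcCompIso f g Y h).hom).left ≫
        pullback.fst Y.hom d =
      (ActBC.bcCompIso f g X h).inv.left ≫ pullback.fst (Red.bc g X).hom f ≫ φ.left ≫ pullback.fst Y.hom g := by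
  rw [Over.comp_left, Over.comp_left, Category.assoc, Category.assoc, ActBC.bcCompIso_hom_left_fst,
    ActBC.pullback_map_left_fst_assoc]

/-- A morphism into a base change through an open. -/
theorem fac_open [Mono g] (X : Over S) {W : Scheme.{u}} (z : W ⟶ pullback X.hom g) (w : W ⟶ pullback X.hom d)
    (h1 : w ≫ pullback.fst X.hom d = z ≫ pullback.fst X.hom g)
    (h2 : w ≫ pullback.snd X.hom d ≫ d = z ≫ pullback.snd X.hom g ≫ g) :
    w ≫ (ActBC.bcCompIso f g X h).inv.left ≫ pullback.fst (Red.bc g X).hom f = z := by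
  apply pullback.hom_ext
  · rw [Category.assoc, Category.assoc]
    exact (congrArg (w ≫ ·) (bcCompInv_fst f g h X)).trans h1
  · rw [Category.assoc, Category.assoc, ← cancel_mono g, Category.assoc, Category.assoc]
    refine Eq.trans ?_ (h2.trans (congrArg (z ≫ ·) rfl))
    refine congrArg (w ≫ ·) ?_
    rw [← Category.assoc, ← Category.assoc]
    have e := congrArg (· ≫ g) (bcCompInv_snd f g h X)
    simp only [Category.assoc] at e ⊢
    rw [e, h]

end

variable {S : Scheme.{u}} [IsIntegral S] [IsLocallyNoetherian S]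

/-- Homomorphisms over a non-empty open subscheme extend. -/
theorem exists_hom_extension_open (hnorm : ∀ s : S, IsIntegrallyClosed (S.presheaf.stalk s)) {H T : Over S}
    [GrpObj H] [GrpObj T] [Smooth H.hom] [GeometricallyIrreducible H.hom] (hT : SGA3x.IsMultTypeFT T)
    (U : S.Opens) (hU : genericPoint S ∈ U) (j : Red.bc U.ι H ⟶ Red.bc U.ι T) [IsMonHom j] :
    ∃ v : H ⟶ T, IsMonHom v ∧ (Over.pullback U.ι).map v = j := by
  haveI : IsLocallyNoetherian H.left := LocallyOfFiniteType.isLocallyNoetherian H.hom
  haveI := MTBridge.isAffineHom T hT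
  haveI : IsReduced H.left := isReduced_of_smooth hnorm H.hom
  let k := U.fromSpecStalkOfMem (genericPoint S) hU
  have hk : k ≫ U.ι = S.fromSpecStalk (genericPoint S) := U.fromSpecStalkOfMem_ι _ hU
  let eH := ActBC.bcCompIso k U.ι H hk
  let eT := ActBC.bcCompIso k U.ι T hk
  let lamK := eH.inv ≫ (Over.pullback k).map j ≫ eT.hom
  haveI : IsMonHom lamK := by dsimp only [lamK, eH, eT]; infer_instance
  obtain ⟨v, ⟨hv, hv'⟩, -⟩ := existsUnique_hom_stalk hnorm hT lamK
  refine ⟨v, hv, ?_⟩
  let q : pullback H.hom U.ι ⟶ S := pullback.snd H.hom U.ι ≫ U.ι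
  haveI : IsReduced (pullback H.hom U.ι) := isReduced_of_isOpenImmersion (pullback.fst H.hom U.ι)
  haveI : IsDominant (pullback.fst q (jgen S)) := ⟨dense_generic q⟩
  haveI : AlgebraicGeometry.IsReduced ((Over.pullback U.ι).obj H).left := ‹AlgebraicGeometry.IsReduced (pullback H.hom U.ι)›
  refine Over.OverMorphism.ext (pullback.hom_ext ?_ ((Over.w _).trans (Over.w _).symm))
  refine ext_of_isDominant_of_isSeparated T.hom ?_ (pullback.fst q (jgen S)) ?_
  · rw [Category.assoc, pullback.condition, Category.assoc, pullback.condition]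
    exact congrArg (· ≫ U.ι) ((Over.w ((Over.pullback U.ι).map v)).trans (Over.w j).symm)
  let w : pullback q (jgen S) ⟶ (Red.bc (S.fromSpecStalk (genericPoint S)) H).left :=
    pullback.lift (pullback.fst q (jgen S) ≫ pullback.fst H.hom U.ι)
      (pullback.snd q (jgen S) ≫ Spec.map (S.residue (genericPoint S))) (by
        rw [Category.assoc, pullback.condition, Category.assoc]
        exact pullback.condition)
  have hw : w ≫ eH.inv.left ≫ pullback.fst (Red.bc U.ι H).hom k = pullback.fst q (jgen S) := by
    refine fac_open k U.ι hk H _ _ (pullback.lift_fst _ _ _) ?_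
    rw [← Category.assoc, pullback.lift_snd, Category.assoc]
    exact pullback.condition.symm
  have h2 : lamK.left ≫ pullback.fst T.hom _ = pullback.fst H.hom _ ≫ v.left := by
    rw [← hv', ActBC.pullback_map_left_fst]
  have h1 : lamK.left ≫ pullback.fst T.hom _ = _ := conj_left_fst k U.ι hk H T j
  have h3 := h1.symm.trans h2
  rw [ActBC.pullback_map_left_fst]
  have h4 := congrArg (w ≫ ·) h3
  have hw' : w ≫ pullback.fst H.hom _ = pullback.fst q (jgen S) ≫ pullback.fst H.hom U.ι :=
    pullback.lift_fst _ _ _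
  calc pullback.fst q (jgen S) ≫ pullback.fst H.hom U.ι ≫ v.left
      = (w ≫ pullback.fst H.hom _) ≫ v.left := by rw [hw', Category.assoc]
    _ = w ≫ pullback.fst H.hom _ ≫ v.left := Category.assoc _ _ _
    _ = w ≫ eH.inv.left ≫ pullback.fst (Red.bc U.ι H).hom k ≫ j.left ≫ pullback.fst T.hom U.ι := h4.symm
    _ = (w ≫ eH.inv.left ≫ pullback.fst (Red.bc U.ι H).hom k) ≫ j.left ≫ pullback.fst T.hom U.ι := by
      rw [Category.assoc, Category.assoc]
    _ = _ := congrArg (· ≫ j.left ≫ pullback.fst T.hom U.ι) hw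

end Groth.Agent.MTExt
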