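import Groth.Agent.MTExt.Global
import Groth.Agent.MTBridge.Centralizer
import Groth.Agent.MTBridge.NormalCentral
import Groth.Agent.FpqcDescent.Affine
import Groth.Prelude.Def_RedSub

/-!
# Preimages of central groups of multiplicative type
-/

set_option autoImplicit false
set_option linter.style.haveILetI false
set_option backward.isDefEq.respectTransparency false
set_option maxHeartbeats 1000000
set_option synthInstance.maxHeartbeats 400000

universe u

open CategoryTheory CategoryTheory.Limits MonoidalCategory CartesianMonoidalCategory MonObj AlgebraicGeometry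
open scoped CategoryTheory.Obj

noncomputable section

namespace Groth.Agent.MTExt

variable {S : Scheme.{u}}

/-- The kernel of a quotient map. -/
theorem isKernel_of_isQuotient {H G Q : Over S} [GrpObj H] [GrpObj G] [GrpObj Q] (i : H ⟶ G) [IsMonHom i] [Mono i]
    (q : G ⟶ Q) [IsMonHom q] (hq : RedSub.IsQuotient i q) : AlgGrp.IsKernel i q := by
  obtain ⟨-, -, -, hsq⟩ := hq
  have hmul : ∀ {T : Over S} (u : T ⟶ G ⊗ H), u ≫ (G ◁ i) ≫ μ[G] = (u ≫ fst G H) * ((u ≫ snd G H) ≫ i) := by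
    intro T u
    rw [show (G ◁ i) ≫ μ[G] = fst G H * (snd G H ≫ i) by rw [Hom.mul_def]; congr 1, MonObj.comp_mul, Category.assoc]
  have hiq : i ≫ q = 1 := by
    have h := congrArg (fun m => lift (1 : H ⟶ G) (𝟙 H) ≫ m) hsq.w
    simp only [← Category.assoc] at h
    rw [Category.assoc (lift (1 : H ⟶ G) (𝟙 H)) (G ◁ i), hmul, lift_fst, lift_snd, Category.id_comp,
      _root_.one_mul, MonObj.one_comp] at h
    exact h.symm
  refine IsPullback.mk' (by rw [hiq, Hom.one_def]) (fun T a b e _ => (cancel_mono i).1 e) fun T x t hxt => ?_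
  have hx : (1 : T ⟶ G) ≫ q = x ≫ q := by
    rw [hxt, toUnit_unique t (toUnit T), ← Hom.one_def, MonObj.one_comp]
  refine ⟨hsq.lift 1 x hx ≫ snd G H, ?_, toUnit_unique _ _⟩
  have h1 := hsq.lift_fst 1 x hx
  have h2 := (hmul _).symm.trans (hsq.lift_snd 1 x hx)
  rwa [h1, _root_.one_mul] at h2

/-- **The preimage of a central group of multiplicative type** in an extension by a normal group of multiplicative type
with connected total fibres is central and of multiplicative type. -/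
theorem exists_preimage {G Z Q H : Over S} [GrpObj G] [GrpObj Z] [GrpObj Q] [GrpObj H] [Smooth G.hom]
    (hconn : ∀ s : S, _root_.IsConnected (G.hom.base ⁻¹' {s})) (z : Z ⟶ G) [IsMonHom z] [Mono z]
    (hZ : SGA3x.IsMultTypeFT Z) (hZn : AlgGrp.IsNormalHom z) (q : G ⟶ Q) [IsMonHom q] [Flat q.left]
    [Surjective q.left] [QuasiCompact q.left] (hker : AlgGrp.IsKernel z q) (v : H ⟶ Q) [IsMonHom v]
    (hH : SGA3x.IsMultTypeFT H) (hv : ∀ (X : Over S) (x : X ⟶ H) (g : X ⟶ Q), (x ≫ v) * g = g * (x ≫ v)) :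
    ∃ (P : Over S) (_ : GrpObj P) (i : P ⟶ G) (p : P ⟶ H), IsMonHom i ∧ IsMonHom p ∧ IsPullback i p q v ∧
      Flat p.left ∧ Surjective p.left ∧ QuasiCompact p.left ∧ SGA3x.IsMultTypeFT P ∧
      ∀ (X : Over S) (x : X ⟶ P) (g : X ⟶ G), (x ≫ i) * g = g * (x ≫ i) := by
  have hZc : ∀ (X : Over S) (g : X ⟶ G) (h : X ⟶ Z), g * (h ≫ z) = (h ≫ z) * g :=
    MTBridge.normal_central hZ (fun s => by
      haveI := isConnected_iff_connectedSpace.1 (hconn s)
      exact (G.hom.fiberHomeo s).symm.surjective.connectedSpace (G.hom.fiberHomeo s).symm.continuous) z hZn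
  let P : Over S := pullback q v
  let i : P ⟶ G := pullback.fst q v
  let p : P ⟶ H := pullback.snd q v
  have hP : IsPullback i p q v := IsPullback.of_hasPullback q v
  let ι' : P ⟶ G ⊗ H := lift i p
  haveI : Mono ι' := ⟨fun a b e => hP.hom_ext
    (by simpa [ι'] using congrArg (fun m => m ≫ fst G H) e) (by simpa [ι'] using congrArg (fun m => m ≫ snd G H) e)⟩
  letI : GrpObj (G ⊗ H) := GrpObj.tensorObj.instTensorObj
  haveI hfst : IsMonHom (fst G H) := inferInstance
  haveI hsnd : IsMonHom (snd G H) := inferInstance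
  have hι1 : ι' ≫ fst G H = i := lift_fst _ _
  have hι2 : ι' ≫ snd G H = p := lift_snd _ _
  obtain ⟨hPg, hιm⟩ := MTBridge.exists_grpObj_of_div ι'
    ⟨hP.lift η[G] η[H] (by rw [IsMonHom.one_hom (f := q), IsMonHom.one_hom (f := v)]), by
      apply CartesianMonoidalCategory.hom_ext
      · rw [Category.assoc, hι1, hP.lift_fst, IsMonHom.one_hom (f := fst G H)]
      · rw [Category.assoc, hι2, hP.lift_snd, IsMonHom.one_hom (f := snd G H)]⟩
    (fun X a b => ⟨hP.lift ((a ≫ i)⁻¹ * (b ≫ i)) ((a ≫ p)⁻¹ * (b ≫ p)) (by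
      rw [MonObj.mul_comp, MonObj.mul_comp, GrpObj.inv_comp, GrpObj.inv_comp, Category.assoc, Category.assoc,
        Category.assoc, Category.assoc, hP.w]), by
      apply CartesianMonoidalCategory.hom_ext
      · rw [Category.assoc, hι1, hP.lift_fst, MonObj.mul_comp, GrpObj.inv_comp, Category.assoc, Category.assoc, hι1]
      · rw [Category.assoc, hι2, hP.lift_snd, MonObj.mul_comp, GrpObj.inv_comp, Category.assoc, Category.assoc, hι2]⟩)
  haveI := hιm
  haveI : IsMonHom i := by rw [← hι1]; infer_instance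
  haveI : IsMonHom p := by rw [← hι2]; infer_instance
  have hP' := hP.map (Over.forget S)
  haveI : Flat p.left := MorphismProperty.of_isPullback hP' ‹Flat q.left›
  haveI : Surjective p.left := MorphismProperty.of_isPullback hP' ‹Surjective q.left›
  haveI : QuasiCompact p.left := MorphismProperty.of_isPullback hP' ‹QuasiCompact q.left›
  obtain ⟨m, hm⟩ : ∃ m : Z ⟶ P, m ≫ i = z ∧ m ≫ p = 1 :=
    ⟨hP.lift z 1 (by rw [hker.w, ← Hom.one_def, MonObj.one_comp]), hP.lift_fst _ _ _, hP.lift_snd _ _ _⟩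
  haveI : IsMonHom m := MTBridge.isMonHom_of_points m fun Y a b => hP.hom_ext
    (by rw [Category.assoc, hm.1, MonObj.mul_comp, MonObj.mul_comp, Category.assoc, Category.assoc, hm.1])
    (by rw [Category.assoc, hm.2, MonObj.comp_one, MonObj.mul_comp, Category.assoc, Category.assoc, hm.2,
      MonObj.comp_one, MonObj.comp_one, _root_.one_mul])
  haveI : Mono m := by
    haveI : Mono (m ≫ i) := by rw [hm.1]; infer_instance
    exact mono_of_mono m i
  have hkerP : AlgGrp.IsKernel m p := by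
    refine IsPullback.mk' (by rw [hm.2, Hom.one_def]) (fun T φ φ' e₁ _ => (cancel_mono m).1 e₁) fun T a b hab => ?_
    have ha : a ≫ p = 1 := by rw [hab, toUnit_unique b (toUnit T), Hom.one_def]
    obtain ⟨h, hh⟩ := (MTKernel.exists_lift_iff hker (a ≫ i)).2 (by
      rw [Category.assoc, hP.w, ← Category.assoc, ha, MonObj.one_comp])
    refine ⟨h, hP.hom_ext ?_ ?_, toUnit_unique _ _⟩
    · rw [Category.assoc, hm.1, hh]
    · rw [Category.assoc, hm.2, MonObj.comp_one, ha]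
  -- centrality
  obtain ⟨c, hc⟩ := (MTKernel.exists_lift_iff hker
      ((fst P G ≫ i) * snd P G * (fst P G ≫ i)⁻¹ * (snd P G)⁻¹)).2 (by
    simp only [MonObj.mul_comp, GrpObj.inv_comp, Category.assoc, hP.w]
    rw [← Category.assoc, hv, mul_inv_cancel_right, mul_inv_cancel])
  have hc' : ∀ {X : Over S} (a : X ⟶ P) (g : X ⟶ G),
      (lift a g ≫ c) ≫ z = (a ≫ i) * g * (a ≫ i)⁻¹ * g⁻¹ := by
    intro X a g
    rw [Category.assoc, hc]
    simp [MonObj.comp_mul, GrpObj.comp_inv]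
  obtain ⟨_, _, _⟩ : Flat (p ▷ G).left ∧ Surjective (p ▷ G).left ∧ QuasiCompact (p ▷ G).left := by
    have h := Assoc.isPullback_whiskerRight (Z := G) p
    exact ⟨MorphismProperty.of_isPullback h ‹_›, MorphismProperty.of_isPullback h ‹_›,
      MorphismProperty.of_isPullback h ‹_›⟩
  obtain ⟨d, hd⟩ := Chev.MultRigid.exists_desc_fppf (p ▷ G) c (fun T x y hxy => by
    have h1 : x ≫ snd P G = y ≫ snd P G := by
      simpa using congrArg (fun z => z ≫ snd H G) hxy
    have h2 : (x ≫ fst P G) ≫ p = (y ≫ fst P G) ≫ p := by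
      simpa using congrArg (fun z => z ≫ fst H G) hxy
    obtain ⟨h, hh⟩ := (MTKernel.exists_lift_iff hkerP ((x ≫ fst P G)⁻¹ * (y ≫ fst P G))).2 (by
      rw [MonObj.mul_comp, GrpObj.inv_comp, h2, inv_mul_cancel])
    have hx : x = lift (x ≫ fst P G) (x ≫ snd P G) :=
      CartesianMonoidalCategory.hom_ext _ _ (by simp) (by simp)
    have hy : y = lift ((x ≫ fst P G) * (h ≫ m)) (x ≫ snd P G) := by
      rw [hh, mul_inv_cancel_left, h1]; exact CartesianMonoidalCategory.hom_ext _ _ (by simp) (by simp)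
    rw [hy, hx, ← cancel_mono z]
    simp only [lift_fst, lift_snd, hc', MonObj.mul_comp]
    rw [Category.assoc h m i, hm.1, _root_.mul_inv_rev]
    have := hZc T (x ≫ snd P G) h
    generalize h ≫ z = w at this ⊢
    generalize x ≫ snd P G = g at this ⊢
    generalize (x ≫ fst P G) ≫ i = a
    calc a * g * a⁻¹ * g⁻¹ = a * (g * w) * (w⁻¹ * a⁻¹) * g⁻¹ := by group
      _ = a * (w * g) * (w⁻¹ * a⁻¹) * g⁻¹ := by rw [this]
      _ = a * w * g * (w⁻¹ * a⁻¹) * g⁻¹ := by group)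
  have hdp : ∀ {X : Over S} (a : X ⟶ P) (g : X ⟶ G), lift (a ≫ p) g ≫ d = lift a g ≫ c := by
    intro X a g
    rw [← hd, lift_whiskerRight_assoc]
  have key := eq_one_of_fibres hH hZ d (fun X x y g => by
    obtain ⟨X₁, c₁, a, hc₁, ha⟩ := Chev.MultRigid.exists_lift_cover p x
    obtain ⟨X₂, c₂, b, hc₂, hb⟩ := Chev.MultRigid.exists_lift_cover p (c₁ ≫ y)
    haveI := hc₁; haveI := hc₂
    rw [← cancel_epi c₁, ← cancel_epi c₂]
    have ha' : (c₂ ≫ a) ≫ p = c₂ ≫ c₁ ≫ x := by rw [Category.assoc, ha]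
    simp only [MonObj.comp_mul, comp_lift_assoc, ← ha', ← hb]
    rw [← MonObj.mul_comp, hdp, hdp, hdp, ← cancel_mono z, MonObj.mul_comp, hc', hc', hc', MonObj.mul_comp]
    have h2 := hZc X₂ ((c₂ ≫ a) ≫ i) (lift b (c₂ ≫ c₁ ≫ g) ≫ c)
    have h3 := hZc X₂ ((((c₂ ≫ a) ≫ i) * (c₂ ≫ c₁ ≫ g) * ((c₂ ≫ a) ≫ i)⁻¹ * (c₂ ≫ c₁ ≫ g)⁻¹))
      (lift b (c₂ ≫ c₁ ≫ g) ≫ c)
    rw [hc'] at h2 h3
    generalize (c₂ ≫ a) ≫ i = u at h2 h3 ⊢
    generalize b ≫ i = v at h2 h3 ⊢
    generalize c₂ ≫ c₁ ≫ g = e at h2 h3 ⊢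
    rw [_root_.mul_inv_rev]
    calc u * v * e * (v⁻¹ * u⁻¹) * e⁻¹ = u * (v * e * v⁻¹ * e⁻¹) * u⁻¹ * (u * e * u⁻¹ * e⁻¹) := by group
      _ = (v * e * v⁻¹ * e⁻¹) * u * u⁻¹ * (u * e * u⁻¹ * e⁻¹) := by rw [h2]
      _ = (v * e * v⁻¹ * e⁻¹) * (u * e * u⁻¹ * e⁻¹) := by group
      _ = (u * e * u⁻¹ * e⁻¹) * (v * e * v⁻¹ * e⁻¹) := h3.symm)
    η[G] (fun s => Or.inl ⟨hconn s, fun X x => by
      obtain ⟨X', c', a, hc'e, ha⟩ := Chev.MultRigid.exists_lift_cover p x
      haveI := hc'e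
      rw [← cancel_epi c', MonObj.comp_one, comp_lift_assoc, ← ha, ← Category.assoc c' (toUnit X), comp_toUnit,
        hdp, ← cancel_mono z, hc', ← Hom.one_def, MonObj.one_comp]
      group⟩)
  have hcen : ∀ (X : Over S) (x : X ⟶ P) (g : X ⟶ G), (x ≫ i) * g = g * (x ≫ i) := by
    intro X x g
    have h1 := hc' x g
    rw [← hdp, key, MonObj.one_comp] at h1
    exact mul_inv_eq_iff_eq_mul.1 (mul_inv_eq_one.1 h1.symm)
  refine ⟨P, hPg, i, p, inferInstance, inferInstance, hP, inferInstance, inferInstance, inferInstance,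
    isMultTypeFT_of_ext p m hkerP hZ hH fun s => Or.inr fun X _ a b => hP.hom_ext ?_ ?_, hcen⟩
  · rw [MonObj.mul_comp, MonObj.mul_comp]
    exact hcen X a (b ≫ i)
  · rw [MonObj.mul_comp, MonObj.mul_comp]
    exact MTBridge.comm_points_scheme H (MTBridge.locally_of_isMultTypeFT' H hH) _ _

end Groth.Agent.MTExt
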