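import Groth.Agent.MTExt.Glue

/-!
# Homomorphisms over the generic stalk extend uniquely
-/

set_option autoImplicit false
set_option linter.style.haveILetI false
set_option backward.isDefEq.respectTransparency false
set_option backward.isDefEq.respectTransparency.types false
set_option synthInstance.maxHeartbeats 400000
set_option maxHeartbeats 1000000

universe u

open CategoryTheory CategoryTheory.Limits MonoidalCategory CartesianMonoidalCategory AlgebraicGeometry IsLocalRing
open MonObj TopologicalSpace
open scoped CategoryTheory.Obj

noncomputable section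

namespace Groth.Agent.MTExt

variable {S : Scheme.{u}} [IsIntegral S] [IsLocallyNoetherian S]

/-- Homomorphisms over the spectrum of the function field extend uniquely. -/
theorem existsUnique_hom_stalk (hnorm : ∀ s : S, IsIntegrallyClosed (S.presheaf.stalk s)) {H T : Over S}
    [GrpObj H] [GrpObj T] [Smooth H.hom] [GeometricallyIrreducible H.hom] (hT : SGA3x.IsMultTypeFT T)
    (lamK : Red.bc (S.fromSpecStalk (genericPoint S)) H ⟶ Red.bc (S.fromSpecStalk (genericPoint S)) T)
    [IsMonHom lamK] :
    ∃! lam : H ⟶ T, IsMonHom lam ∧ (Over.pullback (S.fromSpecStalk (genericPoint S))).map lam = lamK := by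
  haveI : IsLocallyNoetherian H.left := LocallyOfFiniteType.isLocallyNoetherian H.hom
  let g := S.fromSpecStalk (genericPoint S)
  let r := Spec.map (S.residue (genericPoint S))
  haveI : IsIso (S.residue (genericPoint S)) := by
    rw [ConcreteCategory.isIso_iff_bijective]
    letI : Field (S.presheaf.stalk (genericPoint S)) := inferInstanceAs (Field S.functionField)
    exact ⟨RingHom.injective _, Scheme.residue_surjective _ _⟩
  have hr : r ≫ g = MTExt.jgen S := rfl
  let eH := ActBC.bcCompIso r g H hr
  let eT := ActBC.bcCompIso r g T hr
  let uη : Red.bc (MTExt.jgen S) H ⟶ Red.bc (MTExt.jgen S) T :=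
    eH.inv ≫ (Over.pullback r).map lamK ≫ eT.hom
  haveI : IsMonHom uη := by dsimp only [uη, eH, eT]; infer_instance
  obtain ⟨u, hu, hu'⟩ := MTExt.exists_hom_extension hnorm hT uη
  have hnat : ∀ v : H ⟶ T, (Over.pullback g).map v = lamK ↔
      (Over.pullback (MTExt.jgen S)).map v = uη := fun v => by
    have e := ActBC.bcCompIso_hom_naturality (f := r) (g := g) (h := hr) v
    constructor
    · intro hv
      rw [hv] at e
      rw [← cancel_epi eH.hom, ← e]
      simp [uη]
      rfl
    · intro hv
      rw [hv] at e
      have e2 : (Over.pullback r).map ((Over.pullback g).map v) = (Over.pullback r).map lamK := by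
        rw [← cancel_mono eT.hom]
        refine e.trans ?_
        simp [uη, eH]
      haveI : Epi (pullback.fst (Red.bc g H).hom r) := inferInstance
      refine Over.OverMorphism.ext ((cancel_epi (pullback.fst (Red.bc g H).hom r)).1 ?_)
      rw [← ActBC.pullback_map_left_fst, ← ActBC.pullback_map_left_fst, e2]
  haveI : IsAffineHom T.hom := MTBridge.isAffineHom T hT
  haveI : IsReduced H.left := MTExt.isReduced_of_smooth hnorm H.hom
  refine ⟨u, ⟨hu, (hnat u).2 hu'⟩, fun v hv => ?_⟩
  exact MTExt.hom_ext_generic v u (((hnat v).1 hv.2).trans hu'.symm)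

end Groth.Agent.MTExt
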